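import Cfsg.Agent.Lib.G2SylTwo.Fusion

/-!
All involutions of a simple group with a Sylow 2-subgroup of type G2 are conjugate, up to the case of order 64.
-/

set_option autoImplicit false
set_option linter.unusedSectionVars false

namespace Cfsg.Lib.G2SylTwo

open Cfsg Mdl

variable {G : Type*} [Group G] [Finite G] [IsSimpleGroup G] {t : ℕ} {S : Sylow 2 G}
  (e : Mdl t ≃* ↥(S : Subgroup G))

theorem s0_invol (t : ℕ) : s0 t * s0 t = 1 ∧ s0 t ≠ 1 := by simp [s0, mul_def, one_def, sg]

theorem zz_invol (ht : 1 ≤ t) : zz t * zz t = 1 ∧ zz t ≠ 1 := by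
  simp [zz, mul_def, one_def, sg, two_hf ht, hf_ne ht]

theorem ee_invol (ht : 1 ≤ t) : ee t * ee t = 1 ∧ ee t ≠ 1 := by
  simp [ee, mul_def, one_def, sg, two_hf ht, hf_ne ht]

theorem ee'_isConj_ee (t : ℕ) : IsConj (ee' t) (ee t) :=
  isConj_iff.2 ⟨s0 t, by simp [s0, ee, ee', mul_def, sg, Inv.inv]⟩

theorem i_conj {u v : Mdl t} (h : IsConj u v) : u.i = v.i ∧ u.s = v.s := by
  obtain ⟨c, rfl⟩ := isConj_iff.1 h
  clear h
  simp only [mul_def, Inv.inv]
  cases u.i <;> cases u.s <;> cases c.i <;> cases c.s <;> simp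

theorem invol_s (ht : 1 ≤ t) {v : Mdl t} (h : v * v = 1) (h1 : v ≠ 1) (hs : v.s = true) :
    (v.i = false → IsConj v (s0 t)) ∧ (v.i = true → IsConj v (t0 t)) := by
  rcases invol_cases ht h h1 with e' | e' | e' | e' | e'
  · simp [e', zz] at hs
  · simp [(i_conj e').2, ee] at hs
  · exact ⟨fun _ => e', fun hi => by simp [(i_conj e').1, s0] at hi⟩
  · exact ⟨fun hi => by simp [(i_conj e').1, t0] at hi, fun _ => e'⟩
  · simp [e'.2] at hs

/-- An element with a root of the central involution commuting with it and fused to it. -/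
theorem sim_ee_of_root (ht : 1 ≤ t) {w r : Mdl t} (hne : w ≠ zz t) (hw : Sim e w (zz t)) (hr : Commute r w)
    (hr2 : r * r = zz t) : Sim e (zz t) (ee t) := by
  obtain ⟨k, hk, hmove⟩ := move_zz e ht hw
  obtain ⟨r', hr'⟩ := hmove r hr
  have hsq : emb e (r' * r') = k * emb e (zz t) * k⁻¹ := by rw [map_mul, hr', ← hr2, map_mul]; group
  have hsim : Sim e (zz t) (r' * r') := isConj_iff.2 ⟨k, hsq.symm⟩
  obtain ⟨h1, h2⟩ := hsim.symm.invol (zz_invol ht).1 (zz_invol ht).2
  rcases invol_torus ht (sq_coords r').1 (sq_coords r').2 h1 h2 with e' | e' | e'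
  · exfalso
    refine hne (emb_injective e ?_)
    rw [e'] at hsq
    exact mul_left_cancel (mul_right_cancel (hk.trans hsq))
  · exact e' ▸ hsim
  · exact (e' ▸ hsim).trans (sim_of_isConj (ee'_isConj_ee t))

/-- The central involution is fused to a noncentral involution of the homocyclic subgroup. -/
theorem sim_zz_ee (ht : 2 ≤ t) : Sim e (zz t) (ee t) := by
  have ht1 : 1 ≤ t := by omega
  by_contra hze
  have only : ∀ v, Sim e v (zz t) → v ≠ zz t → v.i = true ∧ v.s = false ∧ par v.x ≠ par v.y := by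
    intro v hv hne
    obtain ⟨h1, h2⟩ := hv.invol (zz_invol ht1).1 (zz_invol ht1).2
    rcases invol_cases ht1 h1 h2 with e' | e' | e' | e' | e'
    · exact absurd e' hne
    · exact absurd ((sim_of_isConj e').symm.trans hv).symm hze
    · refine absurd (sim_ee_of_root e ht1 (w := s0 t) (r := ⟨qt t, qt t, false, false⟩) ?_
        ((sim_of_isConj e').symm.trans hv) (commute_s0 rfl) ?_) hze
      · simp [s0, zz]
      · simp [zz, mul_def, sg, two_qt ht]
    · refine absurd (sim_ee_of_root e ht1 (w := t0 t) (r := ⟨qt t, -qt t, false, false⟩) ?_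
        ((sim_of_isConj e').symm.trans hv) ?_ ?_) hze
      · simp [t0, zz]
      · simp [Commute, SemiconjBy, t0, mul_def, sg]
      · simp [zz, mul_def, sg, two_qt ht, ← neg_add, neg_hf ht1]
    · refine ⟨e'.1, e'.2, fun hp => ?_⟩
      have hc : IsConj v ⟨v.x, v.x, true, false⟩ := by
        conv_lhs => rw [show v = ⟨v.x, v.y, true, false⟩ from Mdl.ext rfl rfl e'.1 e'.2]
        exact inv_isConj ht1 rfl hp.symm
      refine absurd (sim_ee_of_root e ht1 (r := ⟨hf t, 0, false, true⟩) ?_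
        ((sim_of_isConj hc).symm.trans hv) ?_ ?_) hze
      · simp [zz]
      · simp [Commute, SemiconjBy, mul_def, sg, neg_hf ht1, add_comm]
      · simp [zz, mul_def, sg]
  obtain ⟨v, hv, hne⟩ : ∃ v, Sim e v (zz t) ∧ v ≠ zz t := by
    by_contra hall
    push Not at hall
    have hiso : IsIsolatedInvolution (emb e (zz t)) :=
      Invol.isolated_of_sylow S (invol_iff.2 (zz_invol ht1)) fun g hg => by
        obtain ⟨v, hv⟩ := exists_emb e hg
        rw [← hv, hall v (isConj_iff.2 ⟨g, hv.symm⟩ : Sim e (zz t) v).symm]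
    have h := ZStar.mem_center_of_isolated (oddCore_eq_bot e ht1) hiso
    rw [center_eq_bot e ht1, Subgroup.mem_bot] at h
    exact (zz_invol ht1).2 (emb_injective e (h.trans (map_one _).symm))
  obtain ⟨hvi, hvs, hvp⟩ := only v hv hne
  obtain ⟨k, hk, hmove⟩ := move_zz e ht1 hv
  have hA : ∀ p q : ZMod (2 ^ t), p + p = 0 → q + q = 0 → Commute (⟨p, q, false, false⟩ : Mdl t) v := by
    intro p q hp hq
    obtain ⟨a, b, i, s⟩ := v
    subst hvi hvs
    simp only [Commute, SemiconjBy, mul_def, sg, cond_false, cond_true, Bool.false_xor, Mdl.mk.injEq, Bool.xor_false]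
    exact ⟨by linear_combination hp, by linear_combination hq, trivial, trivial⟩
  obtain ⟨c, hc⟩ := hmove (zz t) (hA _ _ (two_hf ht1) (two_hf ht1))
  obtain ⟨a₁, ha₁⟩ := hmove (ee t) (hA _ _ (two_hf ht1) (add_zero 0))
  obtain ⟨a₂, ha₂⟩ := hmove (ee' t) (hA _ _ (add_zero 0) (two_hf ht1))
  have hcz : c ≠ zz t := fun h => hne (emb_injective e (by
    rw [h] at hc; exact mul_left_cancel (mul_right_cancel (hk.trans hc))))
  obtain ⟨hci, hcs, hcp⟩ := only c (isConj_iff.2 ⟨k, hc.symm⟩ : Sim e (zz t) c).symm hcz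
  have key : ∀ a w : Mdl t, emb e a = k * emb e w * k⁻¹ → Sim e w (ee t) → Commute w (zz t) →
      a = ee t ∨ a = ee' t := by
    intro a w ha hw hwz
    have hsim : Sim e w a := isConj_iff.2 ⟨k, ha.symm⟩
    obtain ⟨h1, h2⟩ := (hsim.symm.trans hw).invol (ee_invol ht1).1 (ee_invol ht1).2
    have hcomm : Commute a c := emb_injective e (by
      rw [map_mul, map_mul, ha, hc]
      exact ((hwz.map (emb e)).map (MulAut.conj k).toMonoidHom).eq)
    obtain ⟨x, y, i, s⟩ := c
    subst hci hcs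
    have hnz : ¬ Sim e a (zz t) := fun h => hze (h.symm.trans (hsim.symm.trans hw))
    rcases comm_mixed ht hcp hcomm h1 h2 with e' | e' | e' | e'
    · exact absurd (e' ▸ IsConj.refl _ : Sim e a (zz t)) hnz
    · exact Or.inl e'
    · exact Or.inr e'
    · exact absurd ((sim_of_isConj e').trans (isConj_iff.2 ⟨k, hc.symm⟩ : Sim e (zz t) _).symm) hnz
  have hprod : c = a₁ * a₂ := emb_injective e (by
    rw [map_mul, ha₁, ha₂, hc, ← ee_mul_ee' t, map_mul]; group)
  rcases key a₁ (ee t) ha₁ (IsConj.refl _) ((zz_central ht1 _).symm : ee t * zz t = zz t * ee t) with rfl | rfl <;>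
    rcases key a₂ (ee' t) ha₂ (sim_of_isConj (ee'_isConj_ee t))
      ((zz_central ht1 _).symm : ee' t * zz t = zz t * ee' t) with rfl | rfl <;>
    simp [hprod, ee, ee', mul_def, sg] at hci

/-- There are at most two classes, represented by the central involution and the exchange. -/
theorem sim_zz_or_s0 (ht : 2 ≤ t) :
    (Sim e (s0 t) (zz t) ∨ Sim e (t0 t) (s0 t)) ∧
      ∀ v : Mdl t, v * v = 1 → v ≠ 1 → Sim e v (zz t) ∨ Sim e v (s0 t) := by
  have ht1 : 1 ≤ t := by omega
  have hze := sim_zz_ee e ht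
  have hA : Sim e (s0 t) (zz t) ∨ Sim e (t0 t) (s0 t) := by
    obtain ⟨v, hv, hsim⟩ := exists_sim_ker e ht1 (fun v => v.i ^^ v.s)
      (fun v w => by cases hi : v.i <;> cases hs : v.s <;> simp [mul_def, hi, hs])
      (s0_invol t).1 (s0_invol t).2 rfl
    obtain ⟨h1, h2⟩ := hsim.symm.invol (s0_invol t).1 (s0_invol t).2
    rcases invol_cases ht1 h1 h2 with e' | e' | e' | e' | e'
    · exact Or.inl (e' ▸ hsim)
    · exact Or.inl ((hsim.trans (sim_of_isConj e')).trans hze.symm)
    · simp [(i_conj e').1, (i_conj e').2, s0] at hv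
    · exact Or.inr (hsim.trans (sim_of_isConj e')).symm
    · simp [e'.1, e'.2] at hv
  refine ⟨hA, fun v h1 h2 => ?_⟩
  cases hi : v.i
  · rcases invol_cases ht1 h1 h2 with e' | e' | e' | e' | e'
    · exact Or.inl (e' ▸ IsConj.refl _)
    · exact Or.inl ((sim_of_isConj e').trans hze.symm)
    · exact Or.inr (sim_of_isConj e')
    · simp [(i_conj e').1, t0] at hi
    · simp [e'.1] at hi
  · obtain ⟨u, hu, hsim⟩ := exists_sim_ker e ht1 (fun v => v.i) (fun v w => by simp [mul_def]) h1 h2 hi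
    obtain ⟨g1, g2⟩ := hsim.symm.invol h1 h2
    rcases invol_cases ht1 g1 g2 with e' | e' | e' | e' | e'
    · exact Or.inl (e' ▸ hsim)
    · exact Or.inl ((hsim.trans (sim_of_isConj e')).trans hze.symm)
    · exact Or.inr (hsim.trans (sim_of_isConj e'))
    · simp [(i_conj e').1, t0] at hu
    · simp [e'.1] at hu

/-- For larger modulus there is one class. -/
theorem sim_s0_zz (ht : 3 ≤ t) : Sim e (s0 t) (zz t) := by
  have ht1 : 1 ≤ t := by omega
  by_contra hsz
  have hze := sim_zz_ee e (t := t) (by omega)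
  have hts : Sim e (t0 t) (s0 t) := ((sim_zz_or_s0 e (t := t) (by omega)).1).resolve_left hsz
  -- an inversion of equal parities is fused to the exchange
  obtain ⟨a, ha⟩ : ∃ a, Sim e ⟨a, a, true, false⟩ (s0 t) := by
    obtain ⟨v, hv, hsim⟩ := exists_sim_ker e ht1 (fun v => par (v.x + v.y) ^^ v.s)
      (fun v w => by
        have h0 : ∀ i z, par (sg (t := t) i z) = par z := fun i z => by cases i <;> simp [sg, par_neg ht1]
        simp only [mul_def, par_add ht1, h0]
        cases hs : v.s <;> simp <;> grind)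
      (s0_invol t).1 (s0_invol t).2 (by simp [s0, par])
    obtain ⟨h1, h2⟩ := hsim.symm.invol (s0_invol t).1 (s0_invol t).2
    rcases invol_cases ht1 h1 h2 with e' | e' | e' | e' | e'
    · exact absurd (e' ▸ hsim) hsz
    · exact absurd ((hsim.trans (sim_of_isConj e')).trans hze.symm) hsz
    · obtain ⟨c, hc⟩ := isConj_iff.1 e'.symm
      rw [← hc] at hv
      obtain ⟨cx, cy, ci, cs⟩ := c
      cases ci <;> cases cs <;> simp [s0, mul_def, sg, Inv.inv, par_add ht1, par_neg ht1, show par (0 : ZMod (2 ^ t)) = false by simp [par]] at hv <;> grind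
    · obtain ⟨c, hc⟩ := isConj_iff.1 e'.symm
      rw [← hc] at hv
      obtain ⟨cx, cy, ci, cs⟩ := c
      cases ci <;> cases cs <;> simp [t0, mul_def, sg, Inv.inv, par_add ht1, par_neg ht1, show par (0 : ZMod (2 ^ t)) = false by simp [par]] at hv <;> grind
    · refine ⟨v.x, ?_⟩
      have hp : par v.x = par v.y := by simpa [e'.2, par_add ht1] using hv
      have hc : IsConj v ⟨v.x, v.x, true, false⟩ := by
        conv_lhs => rw [show v = ⟨v.x, v.y, true, false⟩ from Mdl.ext rfl rfl e'.1 e'.2]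
        exact inv_isConj ht1 rfl hp.symm
      exact (sim_of_isConj hc).symm.trans hsim.symm
  set u₀ : Mdl t := ⟨a, a, true, false⟩
  have h2t : (2 : ℕ) ^ 3 ≤ 2 ^ t := Nat.pow_le_pow_right two_pos ht
  have hcard : ∀ {u v : Mdl t}, IsConj u v →
      Nat.card {x : Mdl t // Commute x u} = Nat.card {x : Mdl t // Commute x v} := by
    intro u v h
    obtain ⟨c, rfl⟩ := isConj_iff.1 h
    refine Nat.card_congr ((MulAut.conj c).toEquiv.subtypeEquiv fun x => ?_)
    exact ⟨fun hx => hx.map (MulAut.conj c).toMonoidHom,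
      fun hx => by simpa [MulAut.conj_apply, mul_assoc] using hx.map (MulAut.conj c⁻¹).toMonoidHom⟩
  have hmax : ∀ v, Sim e (s0 t) v →
      Nat.card {x : Mdl t // Commute x v} ≤ Nat.card {x : Mdl t // Commute x (s0 t)} := by
    intro v hv
    obtain ⟨h1, h2⟩ := hv.symm.invol (s0_invol t).1 (s0_invol t).2
    rcases invol_cases ht1 h1 h2 with e' | e' | e' | e' | e'
    · exact absurd (e' ▸ hv) hsz
    · exact absurd ((hv.trans (sim_of_isConj e')).trans hze.symm) hsz
    · exact (hcard e').le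
    · rw [hcard e', card_cent_t0, card_cent_s0]
    · rw [card_cent_s0]; exact (card_cent_inv ht1 e'.1 e'.2).trans (by omega)
  obtain ⟨k, hk, hmove⟩ := exists_move e hmax ha
  have himg : ∀ v v' : Mdl t, Commute v u₀ → emb e v' = k * emb e v * k⁻¹ → v'.y = v'.x ∧ Sim e v v' := by
    intro v v' hv hv'
    refine ⟨comm_s0 (emb_injective e ?_), isConj_iff.2 ⟨k, hv'.symm⟩⟩
    rw [map_mul, map_mul, hv', ← hk]
    exact ((hv.map (emb e)).map (MulAut.conj k).toMonoidHom).eq
  have hinj : ∀ {v w v' : Mdl t}, emb e v' = k * emb e v * k⁻¹ → emb e v' = k * emb e w * k⁻¹ → v = w :=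
    fun h1 h2 => emb_injective e (mul_left_cancel (mul_right_cancel (h1.symm.trans h2)))
  -- the central involution is fixed
  have hr : Commute (⟨hf t, 0, false, true⟩ : Mdl t) u₀ := by
    simp [u₀, Commute, SemiconjBy, mul_def, sg, neg_hf ht1, add_comm]
  obtain ⟨r', hr'⟩ := hmove _ hr
  have hzfix : emb e (zz t) = k * emb e (zz t) * k⁻¹ := by
    have hsq : emb e (r' * r') = k * emb e (zz t) * k⁻¹ := by
      rw [map_mul, hr', show zz t = (⟨hf t, 0, false, true⟩ : Mdl t) * ⟨hf t, 0, false, true⟩ by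
        simp [zz, mul_def, sg], map_mul]
      group
    have hsim : Sim e (zz t) (r' * r') := isConj_iff.2 ⟨k, hsq.symm⟩
    obtain ⟨h1, h2⟩ := hsim.symm.invol (zz_invol ht1).1 (zz_invol ht1).2
    have hy : (r' * r').y = (r' * r').x := by
      have := (himg _ _ hr hr').1
      obtain ⟨p, q, i, s⟩ := r'
      cases this
      cases i <;> cases s <;> simp [mul_def, sg]
    rcases invol_torus ht1 (sq_coords r').1 (sq_coords r').2 h1 h2 with e' | e' | e'
    · rw [← e']; exact hsq.trans (by rw [e'])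
    · rw [e'] at hy; exact absurd hy.symm (hf_ne ht1)
    · rw [e'] at hy; exact absurd hy (hf_ne ht1)
  -- the image of a noncentral involution of the homocyclic subgroup
  have hee : Commute (ee t) u₀ := by simp [u₀, ee, Commute, SemiconjBy, mul_def, sg, neg_hf ht1, add_comm]
  obtain ⟨e₁, he₁⟩ := hmove _ hee
  obtain ⟨hy₁, hsim₁⟩ := himg _ _ hee he₁
  have hz₁ : Sim e e₁ (zz t) := hsim₁.symm.trans hze.symm
  obtain ⟨h11, h12⟩ := hz₁.invol (zz_invol ht1).1 (zz_invol ht1).2
  obtain ⟨p₁, q₁, i₁, s₁⟩ := e₁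
  cases hy₁
  cases s₁
  swap
  · have := invol_s ht1 h11 h12 rfl
    cases i₁
    · exact absurd ((sim_of_isConj (this.1 rfl)).symm.trans hz₁) hsz
    · exact absurd (hts.symm.trans ((sim_of_isConj (this.2 rfl)).symm.trans hz₁)) hsz
  cases i₁
  · rcases invol_torus ht1 rfl rfl h11 h12 with e' | e' | e'
    · rw [e'] at he₁
      have := hinj he₁ hzfix
      simp [ee, zz, (hf_ne ht1).symm] at this
    · have h1 := congrArg Mdl.x e'
      have h2 := congrArg Mdl.y e'
      simp only [ee] at h1 h2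
      exact absurd (h1.symm.trans h2) (hf_ne ht1)
    · have h1 := congrArg Mdl.x e'
      have h2 := congrArg Mdl.y e'
      simp only [ee'] at h1 h2
      exact absurd (h2.symm.trans h1) (hf_ne ht1)
  -- the image of the exchange
  have hs0 : Commute (s0 t) u₀ := by simp [u₀, s0, Commute, SemiconjBy, mul_def, sg]
  obtain ⟨s', hs'⟩ := hmove _ hs0
  obtain ⟨hy', hsim'⟩ := himg _ _ hs0 hs'
  obtain ⟨h'1, h'2⟩ := hsim'.symm.invol (s0_invol t).1 (s0_invol t).2
  obtain ⟨p, q, i', s'⟩ := s'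
  cases hy'
  cases i'
  · cases s'
    · rcases invol_torus ht1 rfl rfl h'1 h'2 with e' | e' | e'
      · exact absurd (e' ▸ hsim') hsz
      · exact absurd ((e' ▸ hsim' : Sim e (s0 t) (ee t)).trans hze.symm) hsz
      · exact absurd (((e' ▸ hsim' : Sim e (s0 t) (ee' t)).trans (sim_of_isConj (ee'_isConj_ee t))).trans hze.symm) hsz
    · simp only [mul_def, one_def, sg, cond_false, cond_true, Mdl.mk.injEq] at h'1
      rcases eq_or_eq_hf ht1 h'1.1 with rfl | rfl
      · have := hinj hs' (show emb e (s0 t) = k * emb e u₀ * k⁻¹ from hk.symm)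
        simp [s0, u₀] at this
      · have := hinj hs' (w := u₀ * zz t) (by
          rw [map_mul, show k * (emb e u₀ * emb e (zz t)) * k⁻¹ =
            k * emb e u₀ * k⁻¹ * (k * emb e (zz t) * k⁻¹) by group, hk, ← hzfix, ← map_mul]
          congr 1
          simp [s0, zz, mul_def, sg])
        simp [s0, u₀, zz, mul_def] at this
  have hsim'' : Sim e (s0 t * u₀) ((⟨p, p, true, s'⟩ : Mdl t) * s0 t) :=
    isConj_iff.2 ⟨k, by rw [map_mul, map_mul, hs', ← hk]; group⟩
  have hsu : Sim e (s0 t * u₀) (s0 t) := by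
    have hi : IsConj (s0 t * u₀) (t0 t) := (invol_s ht1 (v := s0 t * u₀)
      (by simp [s0, u₀, mul_def, one_def, sg]) (by simp [s0, u₀, mul_def, one_def]) (by simp [s0, u₀, mul_def])).2
      (by simp [s0, u₀, mul_def])
    exact (sim_of_isConj hi).trans hts
  have hw : Sim e ⟨p, p, true, false⟩ (s0 t) := by
    cases s'
    · exact hsim'.symm
    · have : (⟨p, p, true, true⟩ : Mdl t) * s0 t = ⟨p, p, true, false⟩ := by simp [s0, mul_def, sg]
      exact (this ▸ hsim'').symm.trans hsu
  -- the product has order four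
  have hsq : p₁ - p + (p₁ - p) = hf t := by
    have h4 : emb e ((⟨p₁, p₁, true, false⟩ : Mdl t) * ⟨p, p, true, s'⟩ *
        ((⟨p₁, p₁, true, false⟩ : Mdl t) * ⟨p, p, true, s'⟩)) = emb e (zz t) := by
      simp only [map_mul, he₁, hs']
      rw [hzfix, show zz t = ee t * s0 t * (ee t * s0 t) by simp [zz, ee, s0, mul_def, sg]]
      simp only [map_mul]
      group
    have := congrArg Mdl.x (emb_injective e h4)
    cases s' <;> simp [mul_def, sg, zz] at this <;> linear_combination this
  have hpar : par p₁ = par p := by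
    have h0 : par (p₁ - p) = false := by
      have hd : p₁ - p - qt t + (p₁ - p - qt t) = 0 := by
        linear_combination hsq - two_qt (t := t) (by omega)
      rcases eq_or_eq_hf ht1 hd with h | h
      · rw [sub_eq_zero.1 h, par_qt ht]
      · rw [sub_eq_iff_eq_add.1 h, par_add ht1, par_hf (by omega), par_qt ht]; rfl
    rw [sub_eq_add_neg, par_add ht1, par_neg ht1] at h0
    simpa using h0
  exact hsz ((hw.symm.trans (sim_of_isConj (inv_isConj ht1 hpar hpar).symm)).trans hz₁)

/-- Every involution of the group is fused to an involution of the Sylow subgroup. -/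
theorem exists_sim (e : Mdl t ≃* ↥(S : Subgroup G)) {y : G} (hy : orderOf y = 2) :
    ∃ v : Mdl t, v * v = 1 ∧ v ≠ 1 ∧ IsConj y (emb e v) := by
  obtain ⟨S', hS'⟩ := (IsPGroup.of_card (n := 1) (by rw [Nat.card_zpowers, hy, pow_one]) :
    IsPGroup 2 (Subgroup.zpowers y)).exists_le_sylow
  obtain ⟨m, hm⟩ := MulAction.exists_smul_eq G S' S
  have hmem : m * y * m⁻¹ ∈ (S : Subgroup G) := by
    rw [← hm, Sylow.coe_subgroup_smul, Subgroup.mem_pointwise_smul_iff_inv_smul_mem]
    simp only [← map_inv, MulAut.smul_def, MulAut.conj_apply, inv_inv]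
    rw [show m⁻¹ * (m * y * m⁻¹) * m = y by group]
    exact hS' (Subgroup.mem_zpowers y)
  obtain ⟨v, hv⟩ := exists_emb e hmem
  have := (invol_iff (e := e) (v := v)).1 (by rw [hv, Invol.orderOf_conj_eq, hy])
  exact ⟨v, this.1, this.2, isConj_iff.2 ⟨m, hv.symm⟩⟩

/-- The classes of involutions. -/
theorem classes (e : Mdl t ≃* ↥(S : Subgroup G)) (ht : 2 ≤ t) :
    (∀ x y : G, orderOf x = 2 → orderOf y = 2 → IsConj x y) ∨
      (Nat.card ↥(S : Subgroup G) = 64 ∧ ∃ x y : G, orderOf x = 2 ∧ orderOf y = 2 ∧ ¬ IsConj x y ∧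
        ∀ z : G, orderOf z = 2 → IsConj z x ∨ IsConj z y) := by
  have htwo : ∀ y : G, orderOf y = 2 → IsConj y (emb e (zz t)) ∨ IsConj y (emb e (s0 t)) := fun y hy => by
    obtain ⟨v, h1, h2, hc⟩ := exists_sim e hy
    exact ((sim_zz_or_s0 e ht).2 v h1 h2).imp hc.trans hc.trans
  by_cases h : Sim e (s0 t) (zz t)
  · refine Or.inl fun x y hx hy => ?_
    have hz : ∀ y : G, orderOf y = 2 → IsConj y (emb e (zz t)) := fun y hy =>
      (htwo y hy).elim id fun h' => IsConj.trans h' h
    exact (hz x hx).trans (hz y hy).symm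
  · have ht2 : t = 2 := by
      by_contra hne
      exact h (sim_s0_zz e (by omega))
    subst ht2
    refine Or.inr ⟨?_, emb e (zz 2), emb e (s0 2), invol_iff.2 (zz_invol (by omega)),
      invol_iff.2 (s0_invol 2), fun hc => h hc.symm, fun z hz => htwo z hz⟩
    rw [← Nat.card_congr e.toEquiv, card_eq]
    norm_num

end Cfsg.Lib.G2SylTwo
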