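import Cfsg.Agent.Lib.G2SylTwo.Pair
import Cfsg.Agent.Lib.Chev.SylowTorus
import Cfsg.Agent.Lib.Chev.MultReeCyclic

/-!
The Sylow 2-subgroups of the groups of type G2 in odd characteristic.
-/

set_option autoImplicit false
set_option linter.unusedSectionVars false

namespace Cfsg.Lib.G2SylTwo

open Cfsg.Lie Cfsg.Lib.Chev Mdl
open scoped MatrixGroups Matrix

section Closure

variable {L : Type*} [Field L] {t : ℕ} {u : Lˣ}

/-- The torus coordinate. -/
noncomputable def torZ (u : Lˣ) (x y : ZMod (2 ^ t)) : GL chevG2.Idx L := tor u (x.val : ℤ) (y.val : ℤ)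

theorem torZ_intCast (hu : u ^ (2 ^ t) = -1) (m n : ℤ) : torZ u (m : ZMod (2 ^ t)) n = tor u m n := by
  obtain ⟨k, hk⟩ : ((2 ^ t : ℕ) : ℤ) ∣ m - ((m : ZMod (2 ^ t)).val : ℤ) := by
    rw [← ZMod.intCast_eq_intCast_iff_dvd_sub]; simp
  obtain ⟨l, hl⟩ : ((2 ^ t : ℕ) : ℤ) ∣ n - ((n : ZMod (2 ^ t)).val : ℤ) := by
    rw [← ZMod.intCast_eq_intCast_iff_dvd_sub]; simp
  rw [torZ, ← tor_period hu _ _ k l]
  congr 1 <;> linarith

theorem torZ_add (hu : u ^ (2 ^ t) = -1) (a b c d : ZMod (2 ^ t)) :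
    torZ u a b * torZ u c d = torZ u (a + c) (b + d) := by
  rw [torZ, torZ, tor_mul, ← torZ_intCast hu]
  simp

theorem torZ_neg (hu : u ^ (2 ^ t) = -1) (a b : ZMod (2 ^ t)) : torZ u (-a) (-b) = tor u (-a.val) (-b.val) := by
  rw [← torZ_intCast hu]; simp

/-- The image of the inversion. -/
noncomputable def imI (L : Type*) [Field L] : GL chevG2.Idx L := pairHom L (SLTwoRel.rot, SLTwoRel.rot⁻¹)

/-- The image of the exchange. -/
noncomputable def imS (i : Lˣ) : GL chevG2.Idx L := pairHom L (SLTwoRel.rot * dia i, dia i)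

variable {i : Lˣ}

theorem dia_sq (hi : i * i = -1) : (dia i * dia i : SL(2, L)) = -1 := by rw [← map_mul, hi, dia_neg_one]

theorem rot_dia_sq : (SLTwoRel.rot * dia i * (SLTwoRel.rot * dia i) : SL(2, L)) = -1 := by
  rw [rot_dia, mul_assoc, ← mul_assoc SLTwoRel.rot, rot_dia, inv_inv, ← mul_assoc, ← mul_assoc, ← map_mul,
    inv_mul_cancel, map_one, one_mul, rot_sq]

theorem imI_sq : imI L * imI L = 1 := by
  rw [imI, ← map_mul, Prod.mk_mul_mk, rot_sq, ← mul_inv_rev, rot_sq, inv_eq_of_mul_eq_one_right (neg_mul_neg (1 : SL(2, L)) 1 |>.trans (one_mul 1)),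
    pairHom_neg_one]

theorem imS_sq (hi : i * i = -1) : imS i * imS i = 1 := by
  rw [imS, ← map_mul, Prod.mk_mul_mk, rot_dia_sq, dia_sq hi, pairHom_neg_one]

theorem rot_inv : (SLTwoRel.rot⁻¹ : SL(2, L)) = -SLTwoRel.rot :=
  inv_eq_of_mul_eq_one_right (by rw [mul_neg, rot_sq, neg_neg])

theorem imI_imS (hi : i * i = -1) : imI L * imS i = imS i * imI L := by
  have hii : i⁻¹ = -i := inv_eq_of_mul_eq_one_right (by rw [mul_neg, hi, neg_neg])
  have hd : (dia i⁻¹ : SL(2, L)) = -dia i := by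
    rw [hii, neg_eq_neg_one_mul, map_mul, dia_neg_one, neg_one_mul]
  have e1 : (SLTwoRel.rot * dia i * SLTwoRel.rot : SL(2, L)) = dia i := by
    rw [rot_dia, mul_assoc, rot_sq, hd, mul_neg_one, neg_neg]
  have e2 : (dia i * SLTwoRel.rot⁻¹ : SL(2, L)) = SLTwoRel.rot * dia i := by
    rw [rot_inv, rot_dia, hd, mul_neg, neg_mul]
  rw [imI, imS, ← map_mul, ← map_mul, Prod.mk_mul_mk, Prod.mk_mul_mk, e1, e2, ← pairHom_neg (dia i, _)]
  congr 1
  rw [← mul_assoc SLTwoRel.rot, rot_sq, rot_inv, neg_one_mul, neg_mul]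

theorem imI_tor (u : Lˣ) (m n : ℤ) : imI L * tor u m n = tor u (-m) (-n) * imI L := by
  rw [imI, tor, tor, ← map_mul, ← map_mul, Prod.mk_mul_mk, Prod.mk_mul_mk]
  congr 2
  · rw [rot_dia, ← zpow_neg]; ring_nf
  · rw [rot_inv, neg_mul, mul_neg, rot_dia, ← zpow_neg]; ring_nf

theorem imS_tor (u : Lˣ) (m n : ℤ) : imS i * tor u m n = tor u n m * imS i := by
  rw [imS, tor, tor, ← map_mul, ← map_mul, Prod.mk_mul_mk, Prod.mk_mul_mk, ← map_mul, ← map_mul]
  congr 2
  · rw [mul_assoc, ← map_mul, mul_comm i, map_mul, ← mul_assoc, rot_dia, mul_assoc, ← zpow_neg]; ring_nf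
  · rw [mul_comm i]; ring_nf

/-- The map of the model. -/
noncomputable def phi (hu : u ^ (2 ^ t) = -1) (hi : i * i = -1) : Mdl t →* GL chevG2.Idx L :=
  Mdl.lift (torZ u) (imI L) (imS i) (torZ_add hu) imI_sq (imS_sq hi) (imI_imS hi)
    (fun a b => by rw [torZ_neg hu, torZ, imI_tor]) (fun a b => by rw [torZ, torZ, imS_tor])

theorem phi_mem (hu : u ^ (2 ^ t) = -1) (hi : i * i = -1) (v : Mdl t) : phi hu hi v ∈ chevG2.group L := by
  rw [phi, Mdl.lift_apply]
  refine mul_mem (mul_mem (pairHom_mem _) ?_) ?_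
  · cases v.i
    exacts [one_mem _, pairHom_mem _]
  · cases v.s
    exacts [one_mem _, pairHom_mem _]

theorem phi_injective (hu : u ^ (2 ^ t) = -1) (hi : i * i = -1) (ho : orderOf u = 2 ^ (t + 1)) :
    Function.Injective (phi hu hi) := by
  rw [injective_iff_map_eq_one]
  rintro ⟨x, y, iv, sv⟩ hv
  rw [phi, Mdl.lift_apply, torZ, tor] at hv
  simp only at hv
  have off : ∀ a : SL(2, L), a.1 0 1 ≠ 0 → ¬ (a = 1 ∨ a = -1) := by
    rintro a h (rfl | rfl) <;> simp at h
  have o1 : ∀ a : Lˣ, (dia a * SLTwoRel.rot : SL(2, L)).1 0 1 ≠ 0 := fun a => by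
    simp [Matrix.SpecialLinearGroup.coe_mul, coe_dia, SLTwoRel.coe_rot]
  have o2 : ∀ a c : Lˣ, (dia a * (SLTwoRel.rot * dia c) : SL(2, L)).1 0 1 ≠ 0 := fun a c => by
    simp [Matrix.SpecialLinearGroup.coe_mul, coe_dia, SLTwoRel.coe_rot]
  have o3 : ∀ a c : Lˣ, (dia a * SLTwoRel.rot⁻¹ * dia c : SL(2, L)).1 0 1 ≠ 0 := fun a c => by
    simp [Matrix.SpecialLinearGroup.coe_mul, coe_dia, SLTwoRel.coe_rot, rot_inv]
  cases iv <;> cases sv <;> simp only [cond_false, cond_true, mul_one, imI, imS, ← map_mul, Prod.mk_mul_mk] at hv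
  · obtain ⟨hc, he⟩ := pairHom_eq_one hv
    have hdia : ∀ a : Lˣ, dia a = 1 ∨ dia a = -1 → a = 1 ∨ a = -1 := by
      intro a h
      rcases h with h | h <;>
        · have := congrFun (congrFun (congrArg Subtype.val h) 0) 0
          simp [coe_dia] at this
          simp [this, Units.ext_iff]
    have hsq : ∀ a : Lˣ, a = 1 ∨ a = -1 → a * a = 1 := by rintro a (rfl | rfl) <;> simp
    have h1 := hsq _ (hdia _ hc)
    have h2 := hsq _ (hdia _ (he ▸ hc))
    rw [← zpow_add, ← orderOf_dvd_iff_zpow_eq_one, ho] at h1 h2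
    have he' : ((2 : ℤ) ^ (t + 1)) ∣ 2 * (y.val : ℤ) := by
      have h00 := congrFun (congrFun (congrArg Subtype.val he) 0) 0
      simp only [coe_dia, Matrix.of_apply, Matrix.cons_val', Matrix.cons_val_zero, Matrix.empty_val',
        Matrix.cons_val_fin_one] at h00
      have h01 := Units.ext h00
      rw [← mul_inv_eq_one, ← zpow_neg, ← zpow_add, ← orderOf_dvd_iff_zpow_eq_one, ho] at h01
      push_cast at h01
      convert h01 using 1
      ring
    push_cast at h1 h2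
    have hy : y = 0 := by
      rw [← ZMod.natCast_zmod_val y, ZMod.natCast_eq_zero_iff]
      have := Int.dvd_of_mul_dvd_mul_left two_ne_zero ((pow_succ' (2 : ℤ) t).symm ▸ he')
      exact_mod_cast this
    have hx : x = 0 := by
      rw [← ZMod.natCast_zmod_val x, ZMod.natCast_eq_zero_iff]
      have h3 : (2 : ℤ) ^ (t + 1) ∣ 2 * ((x.val : ℤ) - y.val) := by convert h1 using 1; ring
      rw [hy, ZMod.val_zero, Nat.cast_zero, sub_zero] at h3
      have := Int.dvd_of_mul_dvd_mul_left two_ne_zero ((pow_succ' (2 : ℤ) t).symm ▸ h3)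
      exact_mod_cast this
    rw [hx, hy]; rfl
  · exact absurd (pairHom_eq_one hv).1 (off _ (o2 _ _))
  · exact absurd (pairHom_eq_one hv).1 (off _ (o1 _))
  · obtain ⟨hc, he⟩ := pairHom_eq_one hv
    exact absurd (he.symm ▸ hc) (off _ (o3 _ _))

theorem map_rot (σ : L →+* L) :
    Matrix.SpecialLinearGroup.map σ (SLTwoRel.rot : SL(2, L)) = SLTwoRel.rot := by
  refine Subtype.ext ?_
  show ((SLTwoRel.rot : SL(2, L)) : Matrix (Fin 2) (Fin 2) L).map σ = _
  ext i j; fin_cases i <;> fin_cases j <;> simp [SLTwoRel.coe_rot]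

theorem map_dia (σ : L →+* L) (a : Lˣ) :
    Matrix.SpecialLinearGroup.map σ (dia a) = dia (Units.map σ.toMonoidHom a) := by
  refine Subtype.ext ?_
  show ((dia a : SL(2, L)) : Matrix (Fin 2) (Fin 2) L).map σ = _
  ext i j; fin_cases i <;> fin_cases j <;> simp [coe_dia]

/-- The Frobenius map acts on the image as conjugation by the inversion or trivially. -/
theorem map_phi (hu : u ^ (2 ^ t) = -1) (hi : i * i = -1) (σ : L →+* L) {q : ℕ} (hσ : ∀ x, σ x = x ^ q) {b : Bool}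
    (hq : (q : ZMod (2 ^ t)) = bif b then -1 else 1) (v : Mdl t) :
    Matrix.GeneralLinearGroup.map σ (phi hu hi v) =
      phi hu hi ((⟨0, 0, b, false⟩ : Mdl t) * v * (⟨0, 0, b, false⟩ : Mdl t)⁻¹) := by
  have hU : ∀ a : Lˣ, Units.map σ.toMonoidHom a = a ^ q := fun a => Units.ext (by simpa using hσ a)
  have htor : ∀ x y : ZMod (2 ^ t), Matrix.GeneralLinearGroup.map σ (torZ u x y) =
      torZ u ((q : ZMod (2 ^ t)) * x) ((q : ZMod (2 ^ t)) * y) := by
    intro x y
    have e : ((q : ZMod (2 ^ t)) * x, (q : ZMod (2 ^ t)) * y) = (((((q : ℤ) * x.val) : ℤ) : ZMod (2 ^ t)), ((((q : ℤ) * y.val) : ℤ) : ZMod (2 ^ t))) := by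
      simp
    rw [Prod.mk.injEq] at e
    rw [e.1, e.2, torZ_intCast hu, torZ, tor, tor, map_pairHom, map_dia, map_dia, hU, hU, ← zpow_natCast,
      ← zpow_natCast, ← zpow_mul, ← zpow_mul]
    ring_nf
  have hI : Matrix.GeneralLinearGroup.map σ (imI L) = imI L := by
    rw [imI, map_pairHom, map_rot, map_inv, map_rot]
  have hS : Matrix.GeneralLinearGroup.map σ (imS i) = imS i := by
    rw [imS, map_pairHom, map_mul, map_rot, map_dia, hU]
    have h2 : i ^ q * i ^ q = -1 := by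
      rw [← mul_pow, hi]
      refine Units.ext ?_
      have := hσ (-1)
      rw [map_neg, map_one] at this
      simpa using this.symm
    have h3 : i ^ q = i ∨ i ^ q = -i := by
      have : ((i ^ q : Lˣ) : L) * (i ^ q : Lˣ) = (i : L) * i := by
        rw [← Units.val_mul, ← Units.val_mul, h2, hi]
      rcases mul_self_eq_mul_self_iff.1 this with h | h
      · exact Or.inl (Units.ext h)
      · exact Or.inr (Units.ext (by simpa using h))
    rcases h3 with h | h
    · rw [h]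
    · rw [h, neg_eq_neg_one_mul i, map_mul, dia_neg_one, neg_one_mul, mul_neg]
      exact pairHom_neg (SLTwoRel.rot * dia i, dia i)
  obtain ⟨x, y, iv, sv⟩ := v
  simp only [phi, Mdl.lift_apply, map_mul, Mdl.mul_def, Inv.inv, Mdl.sg, cond_false, Bool.false_xor, zero_add]
  rw [htor, hq]
  cases b <;> cases iv <;> cases sv <;> simp [hI, hS]

end Closure

/-- The Sylow 2-subgroups are isomorphic to the model. -/
theorem exists_sylow_equiv {F : Type*} [Field F] [Fintype F] (hF : Odd (Fintype.card F))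
    (P : Sylow 2 ↥(chevG2.group F)) :
    ∃ t, 2 ≤ t ∧ Nonempty (Mdl t ≃* ↥(P : Subgroup ↥(chevG2.group F))) := by
  classical
  set q := Fintype.card F with hqdef
  have hq3 : 3 ≤ q := by
    have := Fintype.one_lt_card (α := F)
    obtain ⟨k, hk⟩ := hF; omega
  -- the two-adic data
  obtain ⟨b, N, hN4, hNq⟩ : ∃ (b : Bool) (N : ℕ), 4 ∣ N ∧ N + (bif b then 0 else 1) = q + (bif b then 1 else 0) := by
    obtain ⟨k, hk⟩ := hF
    rcases Nat.even_or_odd k with ⟨m, rfl⟩ | ⟨m, rfl⟩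
    · exact ⟨false, 4 * m, ⟨m, rfl⟩, by simp; omega⟩
    · exact ⟨true, 4 * (m + 1), ⟨m + 1, rfl⟩, by simp; omega⟩
  have hN0 : N ≠ 0 := by rintro rfl; cases b <;> simp at hNq <;> omega
  obtain ⟨t, m, hm, hNt⟩ := Nat.exists_eq_two_pow_mul_odd hN0
  have ht : 2 ≤ t := by
    by_contra h
    rcases hN4 with ⟨c, hc⟩
    obtain ⟨d, hd⟩ := hm
    interval_cases t <;> subst hd <;> omega
  have hqmod : (q : ZMod (2 ^ t)) = bif b then -1 else 1 := by
    have h0 : (N : ZMod (2 ^ t)) = 0 := by rw [hNt, Nat.cast_mul, ZMod.natCast_self, zero_mul]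
    have := congrArg (Nat.cast (R := ZMod (2 ^ t))) hNq
    cases b <;> simp [h0] at this ⊢
    · exact this.symm
    · exact eq_neg_of_add_eq_zero_left this.symm
  -- the closure
  obtain ⟨p, hp⟩ := CharP.exists F
  obtain ⟨f, hprime, hq⟩ := FiniteField.card F p
  have := Fact.mk hprime
  let L := AlgebraicClosure F
  have : CharP L p := charP_of_injective_algebraMap (algebraMap F L).injective p
  set σ := iterateFrobenius L p (f : ℕ) with hσdef
  have hσ : ∀ x : L, σ x = x ^ q := fun x => by rw [hσdef, iterateFrobenius_def, hqdef, hq]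
  have hp2 : p ≠ 2 := by
    rintro rfl
    rw [hqdef, hq] at hF
    exact (Nat.not_odd_iff_even.2 (Nat.even_pow.2 ⟨even_two, f.ne_zero⟩)) hF
  have : NeZero ((2 ^ (t + 1) : ℕ) : L) := ⟨fun h => by
    rw [CharP.cast_eq_zero_iff L p] at h
    exact hp2 ((Nat.prime_dvd_prime_iff_eq hprime Nat.prime_two).1 (hprime.dvd_of_dvd_pow h))⟩
  obtain ⟨ζ, hζ⟩ := HasEnoughRootsOfUnity.exists_primitiveRoot L (2 ^ (t + 1))
  obtain ⟨u, rfl⟩ : ∃ u : Lˣ, (u : L) = ζ := ⟨(hζ.isUnit (by positivity)).unit, rfl⟩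
  rw [IsPrimitiveRoot.coe_units_iff] at hζ
  have hu : u ^ (2 ^ t) = -1 := by
    have h2 : IsPrimitiveRoot ((u : L) ^ (2 ^ t)) 2 :=
      (IsPrimitiveRoot.coe_units_iff.2 hζ).pow (by positivity) (by rw [pow_succ])
    refine Units.ext ?_
    simpa using h2.eq_neg_one_of_two_right
  have hi : u ^ (2 ^ (t - 1)) * u ^ (2 ^ (t - 1)) = -1 := by
    rw [← pow_add, ← two_mul, ← pow_succ', Nat.sub_add_cancel (by omega), hu]
  set φ := phi hu hi
  have hφinj : Function.Injective φ := phi_injective hu hi hζ.eq_orderOf.symm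
  -- the twist
  set n := φ ⟨0, 0, b, false⟩
  obtain ⟨g, hg, hgn⟩ := lang_chev fullCertG2.comm.cert fullCertG2 (p := p) (f := (f : ℕ))
    (by rw [← hq]; exact Fintype.one_lt_card)
    (1 : GL chevG2.Idx L) (fun x hx => by simpa using hx) (phi_mem hu hi _ : n ∈ chevG2.group L)
  have hσg : Matrix.GeneralLinearGroup.map σ g = g * n := by
    rw [show n = _ from hgn.symm, hσdef]; group
  let ι := Matrix.GeneralLinearGroup.map (n := chevG2.Idx) (algebraMap F L)
  have hmem : ∀ v, g * φ v * g⁻¹ ∈ (chevG2.group F).map ι := by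
    intro v
    refine descend_coprime fullCertG2.comm.cert fullCertG2 σ hσ inv_G2 (m := Nat.card (Mdl t))
      (Nat.coprime_one_left _) (mul_mem (mul_mem hg (phi_mem hu hi v)) (inv_mem hg)) ?_ ?_
    · have hnv : n * Matrix.GeneralLinearGroup.map σ (φ v) * n⁻¹ = φ v := by
        rw [map_phi hu hi σ hσ hqmod, ← map_inv, ← map_mul, ← map_mul]
        congr 1
        obtain ⟨x, y, iv, sv⟩ := v
        cases b <;> simp [Mdl.mul_def, Inv.inv, Mdl.sg]
      rw [map_mul, map_mul, map_inv, hσg]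
      calc g * n * Matrix.GeneralLinearGroup.map σ (φ v) * (g * n)⁻¹ =
          g * (n * Matrix.GeneralLinearGroup.map σ (φ v) * n⁻¹) * g⁻¹ := by group
        _ = _ := by rw [hnv]
    · rw [conj_pow, ← map_pow, pow_card_eq_one', map_one, mul_one, mul_inv_cancel]
  let Ψ : Mdl t →* GL chevG2.Idx L := (MulAut.conj g).toMonoidHom.comp φ
  let E := Subgroup.equivMapOfInjective (chevG2.group F) ι (map_gl_injective _)
  let θ : Mdl t →* ↥(chevG2.group F) := E.symm.toMonoidHom.comp (Ψ.codRestrict _ hmem)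
  have hθ : Function.Injective θ :=
    E.symm.injective.comp fun x y h => hφinj ((MulAut.conj g).injective (congrArg Subtype.val h))
  -- the order
  have hord : (Nat.card ↥(chevG2.group F)).factorization 2 = 2 * t + 2 := by
    rw [MultW.ree_group_card_G2, Nat.card_eq_fintype_card, ← hqdef]
    obtain ⟨M, hM, hM'⟩ : ∃ M, Odd M ∧ q ^ 2 - 1 = 2 ^ (t + 1) * M := by
      obtain ⟨d, hd⟩ := hm
      have h2 : 1 ≤ q ^ 2 := Nat.one_le_pow _ _ (by omega)
      obtain ⟨s, rfl⟩ := Nat.exists_eq_add_of_le ht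
      set K := 2 ^ (s + 1) * m with hK
      have hNK : N = 2 * K := by rw [hNt, hK, pow_add, pow_succ]; ring
      have hKe : Even K := by rw [hK, pow_succ]; exact ⟨2 ^ s * m, by ring⟩
      have hK1 : 1 ≤ K := Nat.one_le_iff_ne_zero.2 fun h => hN0 (by rw [hNK, h])
      cases b <;> simp at hNq
      · refine ⟨m * (K + 1), Nat.odd_mul.2 ⟨⟨d, hd⟩, hKe.add_one⟩, ?_⟩
        zify [h2]
        rw [show (q : ℤ) = N + 1 by exact_mod_cast hNq.symm, hNK, hK, pow_succ 2 (2 + s), pow_add, pow_succ]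
        push_cast
        ring
      · refine ⟨m * (K - 1), Nat.odd_mul.2 ⟨⟨d, hd⟩, ?_⟩, ?_⟩
        · obtain ⟨c, hc⟩ := hKe
          exact ⟨c - 1, by omega⟩
        · zify [h2, hK1]
          rw [show (q : ℤ) = N - 1 by rw [hNq]; push_cast; ring, hNK, hK, pow_succ 2 (2 + s), pow_add, pow_succ]
          push_cast
          ring
    have h6 : q ^ 6 * (q ^ 2 - 1) * (q ^ 6 - 1) = 2 ^ (2 * t + 2) * (q ^ 6 * (q ^ 4 + q ^ 2 + 1) * (M * M)) := by
      have h2 : 1 ≤ q ^ 2 := Nat.one_le_pow _ _ (by omega)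
      have h6 : 1 ≤ q ^ 6 := Nat.one_le_pow _ _ (by omega)
      have hM2 := hM'
      zify [h2, h6] at hM2 ⊢
      rw [show (2 * t + 2) = (t + 1) + (t + 1) by omega, pow_add]
      linear_combination (q : ℤ) ^ 6 * ((q : ℤ) ^ 4 + (q : ℤ) ^ 2 + 1) * ((q : ℤ) ^ 2 - 1 + 2 ^ (t + 1) * (M : ℤ)) * hM2
    have hodd : Odd (q ^ 6 * (q ^ 4 + q ^ 2 + 1) * (M * M)) := by
      refine Nat.odd_mul.2 ⟨Nat.odd_mul.2 ⟨hF.pow, ?_⟩, hM.mul hM⟩
      exact ((hF.pow.add_odd hF.pow).add_one)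
    rw [h6, Nat.factorization_mul (by positivity) hodd.pos.ne', Finsupp.add_apply,
      Nat.factorization_pow, Finsupp.smul_apply, Nat.Prime.factorization_self Nat.prime_two,
      Nat.factorization_eq_zero_of_not_dvd hodd.not_two_dvd_nat]
    simp
  have : Fact (Nat.Prime 2) := ⟨Nat.prime_two⟩
  have hc : Nat.card ↥θ.range = 2 ^ (Nat.card ↥(chevG2.group F)).factorization 2 := by
    rw [Nat.card_congr (MonoidHom.ofInjective hθ).toEquiv.symm, hord, card_eq, ← pow_mul]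
    ring
  exact ⟨t, ht, ⟨(MonoidHom.ofInjective hθ).trans (Sylow.equiv (Sylow.ofCard θ.range hc) P)⟩⟩

end Cfsg.Lib.G2SylTwo
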