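import Cfsg.Agent.Lib.G2SylTwo.Model
import Cfsg.Agent.Lib.ZStar.Main
import Cfsg.Agent.S0111

/-!
The classes of involutions of a simple group whose Sylow 2-subgroup is the model of those of type G2.
-/

set_option autoImplicit false
set_option linter.unusedSectionVars false

namespace Cfsg.Lib.G2SylTwo

open Cfsg Mdl

variable {G : Type*} [Group G] [Finite G] [IsSimpleGroup G] {t : ℕ} {S : Sylow 2 G}

/-- The isomorphism with the model, into the whole group. -/
def emb (e : Mdl t ≃* ↥(S : Subgroup G)) : Mdl t →* G := (S : Subgroup G).subtype.comp e.toMonoidHom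

variable (e : Mdl t ≃* ↥(S : Subgroup G))

theorem emb_injective : Function.Injective (emb e) := fun _ _ h => e.injective (Subtype.ext h)

theorem emb_mem (v : Mdl t) : emb e v ∈ (S : Subgroup G) := (e v).2

theorem exists_emb {y : G} (hy : y ∈ (S : Subgroup G)) : ∃ v, emb e v = y :=
  ⟨e.symm ⟨y, hy⟩, by simp [emb]⟩

/-- Conjugacy in the group of elements of the model. -/
def Sim (u v : Mdl t) : Prop := IsConj (emb e u) (emb e v)

variable {e}

theorem Sim.symm {u v : Mdl t} (h : Sim e u v) : Sim e v u := IsConj.symm h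

theorem Sim.trans {u v w : Mdl t} (h : Sim e u v) (h' : Sim e v w) : Sim e u w := IsConj.trans h h'

theorem sim_of_isConj {u v : Mdl t} (h : IsConj u v) : Sim e u v := (emb e).map_isConj h

theorem invol_iff {v : Mdl t} : orderOf (emb e v) = 2 ↔ v * v = 1 ∧ v ≠ 1 := by
  rw [orderOf_injective _ (emb_injective e), orderOf_eq_prime_iff (p := 2), pow_two]

theorem Sim.invol {u v : Mdl t} (h : Sim e u v) (hv : v * v = 1) (hv1 : v ≠ 1) : u * u = 1 ∧ u ≠ 1 := by
  obtain ⟨g, hg⟩ := isConj_iff.1 h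
  rw [← invol_iff (e := e)]
  rw [← Cfsg.Lib.Invol.orderOf_conj_eq g, hg, invol_iff]
  exact ⟨hv, hv1⟩

variable (e)

include e in
theorem not_abelian (ht : 1 ≤ t) : ¬ ∀ x y : G, x * y = y * x := by
  intro h
  have h' : ee t * s0 t = s0 t * ee t := emb_injective e (by rw [map_mul, map_mul]; exact h _ _)
  simp [ee, s0, mul_def, sg, hf_ne ht] at h'

include e in
theorem center_eq_bot (ht : 1 ≤ t) : Subgroup.center G = ⊥ :=
  (IsSimpleGroup.eq_bot_or_eq_top_of_normal (Subgroup.center G) inferInstance).resolve_right fun h =>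
    not_abelian e ht fun x y => (Subgroup.mem_center_iff.1 (h ▸ Subgroup.mem_top y) x)

include e in
theorem two_dvd_card (ht : 1 ≤ t) : 2 ∣ Nat.card G := by
  refine dvd_trans ?_ (Subgroup.card_dvd_of_injective (emb e) (emb_injective e))
  rw [card_eq]; exact dvd_mul_of_dvd_left (by norm_num) _

include e in
theorem oddCore_eq_bot (ht : 1 ≤ t) : oddCore G = ⊥ := by
  haveI : (oddCore G).Normal := inferInstance
  have hodd : Odd (Nat.card (oddCore G)) := ZStar.odd_card_oddCore
  refine (IsSimpleGroup.eq_bot_or_eq_top_of_normal _ this).resolve_right fun h => ?_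
  rw [h, Subgroup.card_top] at hodd
  exact (Nat.not_even_iff_odd.2 hodd) (even_iff_two_dvd.2 (two_dvd_card e ht))

include e in
theorem no_index_two (ht : 1 ≤ t) {M : Subgroup G} (hM : M.Normal) : M.index ≠ 2 := by
  intro h
  rcases IsSimpleGroup.eq_bot_or_eq_top_of_normal M hM with rfl | rfl
  · rw [Subgroup.index_bot] at h
    have hd := Subgroup.card_dvd_of_injective (emb e) (emb_injective e)
    rw [card_eq, h] at hd
    have := Nat.le_of_dvd two_pos hd
    nlinarith [Nat.one_le_two_pow (n := t)]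
  · simp at h

/-- Thompson's transfer lemma for a character of the model. -/
theorem exists_sim_ker (ht : 1 ≤ t) (χ : Mdl t → Bool) (hχ : ∀ v w, χ (v * w) = (χ v ^^ χ w)) {u : Mdl t}
    (hu : u * u = 1) (hu1 : u ≠ 1) (hχu : χ u = true) : ∃ v, χ v = false ∧ Sim e u v := by
  have h1 : χ 1 = false := by have := hχ 1 1; simpa using this
  let K : Subgroup (Mdl t) :=
    { carrier := {v | χ v = false}
      mul_mem' := fun {a b} ha hb => by simp only [Set.mem_setOf_eq] at ha hb ⊢; simp [hχ, ha, hb]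
      one_mem' := h1
      inv_mem' := fun {a} ha => by
        simp only [Set.mem_setOf_eq] at ha ⊢
        have := hχ a a⁻¹
        rw [mul_inv_cancel, h1, ha] at this
        simpa using this.symm }
  have hmem : ∀ v, v ∈ K ↔ χ v = false := fun _ => Iff.rfl
  have hK : K.index = 2 := Subgroup.index_eq_two_iff.2 ⟨u, fun b => by
    cases hb : χ b <;> simp [hmem, hχ, hχu, hb, Xor']⟩
  have hle : K.map (emb e) ≤ (S : Subgroup G) := by rintro _ ⟨v, -, rfl⟩; exact emb_mem e v
  have hrel : (K.map (emb e)).relIndex (S : Subgroup G) = 2 := by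
    have hr : (S : Subgroup G) = (⊤ : Subgroup (Mdl t)).map (emb e) := by
      refine le_antisymm (fun y hy => ?_) (by rintro _ ⟨v, -, rfl⟩; exact emb_mem e v)
      obtain ⟨v, rfl⟩ := exists_emb e hy
      exact ⟨v, trivial, rfl⟩
    rw [hr, Subgroup.relIndex_map_map_of_injective _ _ (emb_injective e), Subgroup.relIndex_top_right, hK]
  rcases Cfsg.Agent.S0111.result S (K.map (emb e)) hle hrel (emb e u) (invol_iff.2 ⟨hu, hu1⟩) (emb_mem e u)
    (fun ⟨v, hv, hvu⟩ => by rw [emb_injective e hvu] at hv; simp [K, hχu] at hv) with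
    ⟨M, hM, hM2, -⟩ | ⟨g, v, hv, hvg⟩
  · exact absurd hM2 (no_index_two e ht hM)
  · exact ⟨v, hv, isConj_iff.2 ⟨g, hvg.symm⟩⟩

/-- An element of maximal centralizer in the model attracts the centralizers of its conjugates. -/
theorem exists_move {w : Mdl t}
    (hmax : ∀ v, Sim e w v → Nat.card {x : Mdl t // Commute x v} ≤ Nat.card {x : Mdl t // Commute x w})
    {u : Mdl t} (hu : Sim e u w) :
    ∃ k : G, k * emb e u * k⁻¹ = emb e w ∧ ∀ v, Commute v u → ∃ v', emb e v' = k * emb e v * k⁻¹ := by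
  classical
  obtain ⟨g, hg⟩ := isConj_iff.1 hu
  set j := emb e
  set C := Subgroup.centralizer ({j w} : Set G)
  set P := (Subgroup.centralizer ({w} : Set (Mdl t))).map j
  set H := (Subgroup.centralizer ({u} : Set (Mdl t))).map ((MulAut.conj g).toMonoidHom.comp j)
  have hj2 : IsPGroup 2 (Mdl t) := IsPGroup.of_card (n := 2 + 2 * t) (by rw [card_eq, pow_add, ← pow_mul, mul_comm t]; norm_num)
  have hPC : P ≤ C := by
    rintro _ ⟨x, hx, rfl⟩
    rw [Subgroup.mem_centralizer_singleton_iff, ← map_mul, ← map_mul, Subgroup.mem_centralizer_singleton_iff.1 hx]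
  have hHC : H ≤ C := by
    rintro _ ⟨x, hx, rfl⟩
    rw [Subgroup.mem_centralizer_singleton_iff, ← hg]
    have hxu : Commute (j x) (j u) := (show Commute x u from Subgroup.mem_centralizer_singleton_iff.1 hx).map j
    simp only [MonoidHom.comp_apply, MulEquiv.coe_toMonoidHom, MulAut.conj_apply]
    exact (hxu.map (MulAut.conj g).toMonoidHom).eq
  obtain ⟨Q, hPQ⟩ := (((hj2.to_subgroup _).map j).comap_subtype (K := C)).exists_le_sylow
  obtain ⟨R, hHR⟩ := (((hj2.to_subgroup _).map ((MulAut.conj g).toMonoidHom.comp j)).comap_subtype (K := C)).exists_le_sylow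
  obtain ⟨c, hc⟩ := MulAction.exists_smul_eq (↥C) R Q
  set Q' := (Q : Subgroup ↥C).map C.subtype
  have hPQ' : P ≤ Q' := fun x hx => ⟨⟨x, hPC hx⟩, hPQ hx, rfl⟩
  have hQP : Q' = P := by
    refine (Subgroup.eq_of_le_of_card_ge hPQ' ?_).symm
    obtain ⟨S', hS'⟩ := (Q.isPGroup'.map C.subtype).exists_le_sylow
    obtain ⟨m, hm⟩ := MulAction.exists_smul_eq G S' S
    have hconj : ∀ x ∈ Q', m * x * m⁻¹ ∈ (S : Subgroup G) := fun x hx => by
      rw [← hm, Sylow.coe_subgroup_smul, Subgroup.mem_pointwise_smul_iff_inv_smul_mem]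
      simp only [← map_inv, MulAut.smul_def, MulAut.conj_apply, inv_inv]
      rw [show m⁻¹ * (m * x * m⁻¹) * m = x by group]
      exact hS' hx
    have hwQ : j w ∈ Q' := hPQ' ⟨w, Subgroup.mem_centralizer_singleton_iff.2 rfl, rfl⟩
    obtain ⟨v, hv⟩ := exists_emb e (hconj _ hwQ)
    have hf : ∀ x : ↥Q', ∃ a : {a : Mdl t // Commute a v}, j a.1 = m * (x : G) * m⁻¹ := fun x => by
      obtain ⟨a, ha⟩ := exists_emb e (hconj _ x.2)
      refine ⟨⟨a, ?_⟩, ha⟩
      obtain ⟨y, -, hy⟩ := x.2
      have hxC : Commute (x : G) (j w) := Subgroup.mem_centralizer_singleton_iff.1 (hy ▸ y.2 : (x : G) ∈ C)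
      exact emb_injective e (by
        rw [map_mul, map_mul, ha, hv]
        exact (hxC.map (MulAut.conj m).toMonoidHom).eq)
    choose f hf using hf
    have hfi : Function.Injective f := fun x y hxy => Subtype.ext (by
      have := hf x
      rw [hxy, hf y] at this
      exact (mul_left_cancel (mul_right_cancel this)).symm)
    refine (Nat.card_le_card_of_injective f hfi).trans ((hmax v (isConj_iff.2 ⟨m, hv.symm⟩)).trans_eq ?_)
    rw [Subgroup.card_map_of_injective (emb_injective e)]
    exact Nat.card_congr (Equiv.subtypeEquivRight fun a => Subgroup.mem_centralizer_singleton_iff.symm)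
  refine ⟨(c : G) * g, ?_, fun v hv => ?_⟩
  · have hcw : Commute (c : G) (j w) := Subgroup.mem_centralizer_singleton_iff.1 c.2
    calc (c : G) * g * j u * ((c : G) * g)⁻¹ = (c : G) * (g * j u * g⁻¹) * (c : G)⁻¹ := by group
      _ = _ := by rw [hg, hcw.eq, mul_inv_cancel_right]
  · have hH : g * j v * g⁻¹ ∈ H := ⟨v, Subgroup.mem_centralizer_singleton_iff.2 hv, rfl⟩
    have hR : (⟨_, hHC hH⟩ : ↥C) ∈ (R : Subgroup ↥C) := hHR hH
    have hQ : MulAut.conj c ⟨_, hHC hH⟩ ∈ (Q : Subgroup ↥C) := by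
      rw [← hc, Sylow.coe_subgroup_smul]
      exact Subgroup.smul_mem_pointwise_smul _ _ _ hR
    obtain ⟨v', -, hv'⟩ := hQP.le ⟨_, hQ, rfl⟩
    refine ⟨v', hv'.trans ?_⟩
    simp [MulAut.conj_apply, mul_assoc]

/-- The central involution attracts. -/
theorem move_zz (ht : 1 ≤ t) {u : Mdl t} (hu : Sim e u (zz t)) :
    ∃ k : G, k * emb e u * k⁻¹ = emb e (zz t) ∧ ∀ v, Commute v u → ∃ v', emb e v' = k * emb e v * k⁻¹ := by
  refine exists_move e (fun v _ => ?_) hu
  refine le_of_le_of_eq ?_ (Nat.card_congr (Equiv.subtypeUnivEquiv (p := fun x => Commute x (zz t))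
    fun x => ((zz_central ht x).symm : x * zz t = zz t * x))).symm
  exact Nat.card_le_card_of_injective _ Subtype.val_injective

end Cfsg.Lib.G2SylTwo
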