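import Mathlib

/-!
A model of the Sylow 2-subgroups of the groups of type G2 in odd characteristic: the extension of the homocyclic
group of rank two and exponent `2 ^ t` by a Klein four-group, one generator of which inverts and another of which
exchanges the two coordinates.
-/

set_option autoImplicit false

namespace Cfsg.Lib.G2SylTwo

/-- The coordinates `(x, y)`, the inversion `i` and the exchange `s`. -/
@[ext]
structure Mdl (t : ℕ) where
  /-- The first coordinate. -/
  x : ZMod (2 ^ t)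
  /-- The second coordinate. -/
  y : ZMod (2 ^ t)
  /-- Whether the inversion occurs. -/
  i : Bool
  /-- Whether the exchange occurs. -/
  s : Bool
  deriving DecidableEq

namespace Mdl

variable {t : ℕ}

/-- The sign of an inversion. -/
def sg (i : Bool) (x : ZMod (2 ^ t)) : ZMod (2 ^ t) := bif i then -x else x

instance : One (Mdl t) := ⟨⟨0, 0, false, false⟩⟩
instance : Mul (Mdl t) := ⟨fun v w =>
  ⟨v.x + sg v.i (bif v.s then w.y else w.x), v.y + sg v.i (bif v.s then w.x else w.y), v.i ^^ w.i, v.s ^^ w.s⟩⟩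
instance : Inv (Mdl t) := ⟨fun v =>
  ⟨-sg v.i (bif v.s then v.y else v.x), -sg v.i (bif v.s then v.x else v.y), v.i, v.s⟩⟩

theorem mul_def (v w : Mdl t) : v * w =
    ⟨v.x + sg v.i (bif v.s then w.y else w.x), v.y + sg v.i (bif v.s then w.x else w.y), v.i ^^ w.i, v.s ^^ w.s⟩ :=
  rfl

theorem one_def : (1 : Mdl t) = ⟨0, 0, false, false⟩ := rfl

instance : Group (Mdl t) := Group.ofLeftAxioms
  (fun ⟨a, b, i, s⟩ ⟨c, d, i', s'⟩ ⟨e, f, i'', s''⟩ => by
    cases i <;> cases s <;> cases i' <;> cases s' <;> simp [mul_def, sg] <;>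
      first | done | (constructor <;> abel))
  (fun ⟨a, b, i, s⟩ => by simp [mul_def, one_def, sg])
  (fun ⟨a, b, i, s⟩ => by
    cases i <;> cases s <;> simp [mul_def, one_def, sg, Inv.inv])

/-- The underlying set. -/
def equivProd : Mdl t ≃ ZMod (2 ^ t) × ZMod (2 ^ t) × Bool × Bool where
  toFun v := (v.x, v.y, v.i, v.s)
  invFun p := ⟨p.1, p.2.1, p.2.2.1, p.2.2.2⟩
  left_inv _ := rfl
  right_inv _ := rfl

instance : Finite (Mdl t) := Finite.of_equiv _ equivProd.symm

theorem card_eq : Nat.card (Mdl t) = 4 * (2 ^ t) ^ 2 := by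
  rw [Nat.card_congr equivProd]
  simp [Nat.card_prod]
  ring

/-- The half of the modulus. -/
def hf (t : ℕ) : ZMod (2 ^ t) := ((2 ^ (t - 1) : ℕ) : ZMod (2 ^ t))

/-- A quarter of the modulus. -/
def qt (t : ℕ) : ZMod (2 ^ t) := ((2 ^ (t - 2) : ℕ) : ZMod (2 ^ t))

theorem two_qt (ht : 2 ≤ t) : qt t + qt t = hf t := by
  obtain ⟨u, rfl⟩ := Nat.exists_eq_add_of_le ht
  rw [qt, hf, ← Nat.cast_add, show 2 + u - 1 = u + 1 by omega, show 2 + u - 2 = u by omega, pow_succ, mul_two]

theorem two_hf (ht : 1 ≤ t) : hf t + hf t = 0 := by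
  obtain ⟨u, rfl⟩ := Nat.exists_eq_add_of_le ht
  rw [hf, ← Nat.cast_add, show 1 + u - 1 = u by omega, ← mul_two, ← pow_succ, add_comm u 1, ZMod.natCast_self]

theorem neg_hf (ht : 1 ≤ t) : -hf t = hf t := neg_eq_of_add_eq_zero_left (two_hf ht)

theorem hf_ne (ht : 1 ≤ t) : hf t ≠ 0 := by
  intro h
  rw [hf, ZMod.natCast_eq_zero_iff] at h
  have := Nat.le_of_dvd (by positivity) h
  exact absurd this (not_le.2 (Nat.pow_lt_pow_right (by norm_num) (by omega)))

theorem eq_or_eq_hf (ht : 1 ≤ t) {a : ZMod (2 ^ t)} (h : a + a = 0) : a = 0 ∨ a = hf t := by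
  obtain ⟨u, rfl⟩ := Nat.exists_eq_add_of_le ht
  have hval : a.val < 2 ^ (1 + u) := ZMod.val_lt a
  have hd : 2 ^ (1 + u) ∣ a.val + a.val := by
    rw [← ZMod.natCast_eq_zero_iff, Nat.cast_add, ZMod.natCast_zmod_val, h]
  have hd' : 2 ^ u ∣ a.val := by
    have e : 2 ^ (1 + u) = 2 ^ u * 2 := by rw [pow_add, pow_one, mul_comm]
    refine Nat.dvd_of_mul_dvd_mul_right (m := 2 ^ u) (n := a.val) (k := 2) two_pos ?_
    rw [← e, mul_two]; exact hd
  obtain ⟨k, hk⟩ := hd'
  have hk2 : k < 2 := by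
    rw [hk, pow_add, pow_one, mul_comm 2] at hval
    exact Nat.lt_of_mul_lt_mul_left hval
  rw [← ZMod.natCast_zmod_val a, hk]
  interval_cases k
  · left; simp
  · right; rw [hf, show 1 + u - 1 = u by omega, mul_one]

/-- Parity on `ZMod (2 ^ t)`. -/
def par (x : ZMod (2 ^ t)) : Bool := decide ((x.cast : ZMod 2) ≠ 0)

theorem par_add (ht : 1 ≤ t) (x y : ZMod (2 ^ t)) : par (x + y) = (par x ^^ par y) := by
  simp only [par, ZMod.cast_add (dvd_pow_self 2 (by omega)) x y]
  generalize (x.cast : ZMod 2) = a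
  generalize (y.cast : ZMod 2) = b
  revert a b
  decide

theorem par_neg (ht : 1 ≤ t) (x : ZMod (2 ^ t)) : par (-x) = par x := by
  have h := par_add ht x (-x)
  rw [add_neg_cancel] at h
  have h0 : par (0 : ZMod (2 ^ t)) = false := by simp [par]
  rw [h0] at h
  cases hx : par x <;> simp [hx] at h ⊢ <;> exact h

theorem exists_half (ht : 1 ≤ t) {x : ZMod (2 ^ t)} (h : par x = false) : ∃ d, d + d = x := by
  simp only [par, decide_eq_false_iff_not, not_not] at h
  rw [ZMod.cast_eq_val, ZMod.natCast_eq_zero_iff] at h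
  obtain ⟨k, hk⟩ := h
  exact ⟨k, by rw [← Nat.cast_add, ← two_mul, ← hk, ZMod.natCast_zmod_val]⟩

theorem par_double (ht : 1 ≤ t) (d : ZMod (2 ^ t)) : par (d + d) = false := by rw [par_add ht]; simp

theorem par_qt (ht : 3 ≤ t) : par (qt t) = false := by
  obtain ⟨u, rfl⟩ := Nat.exists_eq_add_of_le ht
  rw [qt, show 3 + u - 2 = u + 1 by omega, pow_succ, mul_two, Nat.cast_add, par_double (by omega)]

theorem par_hf (ht : 2 ≤ t) : par (hf t) = false := by rw [← two_qt ht, par_double (by omega)]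

/-- The central involution. -/
def zz (t : ℕ) : Mdl t := ⟨hf t, hf t, false, false⟩

/-- A noncentral involution of the homocyclic subgroup. -/
def ee (t : ℕ) : Mdl t := ⟨hf t, 0, false, false⟩

/-- Its partner. -/
def ee' (t : ℕ) : Mdl t := ⟨0, hf t, false, false⟩

/-- The exchange. -/
def s0 (t : ℕ) : Mdl t := ⟨0, 0, false, true⟩

/-- The exchange composed with the inversion. -/
def t0 (t : ℕ) : Mdl t := ⟨0, 0, true, true⟩

theorem zz_central (ht : 1 ≤ t) (v : Mdl t) : zz t * v = v * zz t := by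
  obtain ⟨a, b, i, s⟩ := v
  cases i <;> cases s <;> simp [zz, mul_def, sg, add_comm, neg_hf ht]

theorem ee_mul_ee' (t : ℕ) : ee t * ee' t = zz t := by simp [ee, ee', zz, mul_def, sg]

theorem sq_coords (v : Mdl t) : (v * v).i = false ∧ (v * v).s = false := by simp [mul_def]

/-- Involutions of the homocyclic subgroup. -/
theorem invol_torus (ht : 1 ≤ t) {v : Mdl t} (hi : v.i = false) (hs : v.s = false) (h : v * v = 1) (h1 : v ≠ 1) :
    v = zz t ∨ v = ee t ∨ v = ee' t := by
  obtain ⟨a, b, i, s⟩ := v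
  subst hi hs
  simp only [mul_def, one_def, sg, cond_false, Bool.false_xor, Mdl.mk.injEq, and_true] at h
  simp only [one_def, ne_eq, Mdl.mk.injEq, and_true] at h1
  rcases eq_or_eq_hf ht h.1 with rfl | rfl <;> rcases eq_or_eq_hf ht h.2 with rfl | rfl
  · exact absurd ⟨rfl, rfl⟩ h1
  · exact Or.inr (Or.inr rfl)
  · exact Or.inr (Or.inl rfl)
  · exact Or.inl rfl

/-- An involution is central, in the homocyclic subgroup, or conjugate to an exchange, or is an inversion. -/
theorem invol_cases (ht : 1 ≤ t) {v : Mdl t} (h : v * v = 1) (h1 : v ≠ 1) :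
    v = zz t ∨ IsConj v (ee t) ∨ IsConj v (s0 t) ∨ IsConj v (t0 t) ∨
      (v.i = true ∧ v.s = false) := by
  obtain ⟨a, b, i, s⟩ := v
  cases i <;> cases s
  · rcases invol_torus ht (v := ⟨a, b, false, false⟩) rfl rfl h h1 with e | e | e
    · exact Or.inl e
    · exact Or.inr (Or.inl (e ▸ IsConj.refl _))
    · refine Or.inr (Or.inl (isConj_iff.2 ⟨s0 t, ?_⟩))
      rw [e]
      simp [s0, ee, ee', mul_def, sg, Inv.inv]
  · refine Or.inr (Or.inr (Or.inl (isConj_iff.2 ⟨⟨-a, 0, false, false⟩, ?_⟩)))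
    simp only [mul_def, one_def, sg, cond_false, cond_true, Mdl.mk.injEq] at h
    simp [s0, mul_def, sg, Inv.inv, add_comm b a, h.1]
  · exact Or.inr (Or.inr (Or.inr (Or.inr ⟨rfl, rfl⟩)))
  · refine Or.inr (Or.inr (Or.inr (Or.inl (isConj_iff.2 ⟨⟨-a, 0, false, false⟩, ?_⟩))))
    simp only [mul_def, one_def, sg, cond_false, cond_true, Mdl.mk.injEq] at h
    simp [t0, mul_def, sg, Inv.inv]; linear_combination h.2.1

/-- Inversions are conjugate when their coordinates agree modulo two. -/
theorem inv_isConj (ht : 1 ≤ t) {a b c d : ZMod (2 ^ t)} (h₁ : par a = par c) (h₂ : par b = par d) :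
    IsConj (⟨a, b, true, false⟩ : Mdl t) ⟨c, d, true, false⟩ := by
  obtain ⟨u, hu⟩ := exists_half ht (x := c - a) (by rw [sub_eq_add_neg, par_add ht, par_neg ht, h₁]; simp)
  obtain ⟨w, hw⟩ := exists_half ht (x := d - b) (by rw [sub_eq_add_neg, par_add ht, par_neg ht, h₂]; simp)
  refine isConj_iff.2 ⟨⟨u, w, false, false⟩, ?_⟩
  simp only [mul_def, sg, Inv.inv, cond_false, cond_true, Bool.false_xor, Bool.xor_false, Mdl.mk.injEq, and_true]
  exact ⟨by linear_combination hu, by linear_combination hw⟩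

/-- What commutes with an inversion of mixed parity. -/
theorem comm_mixed (ht : 2 ≤ t) {a b : ZMod (2 ^ t)} (hab : par a ≠ par b) {v : Mdl t}
    (hv : Commute v ⟨a, b, true, false⟩) (h : v * v = 1) (h1 : v ≠ 1) :
    v = zz t ∨ v = ee t ∨ v = ee' t ∨ IsConj v ⟨a, b, true, false⟩ := by
  obtain ⟨c, d, i, s⟩ := v
  cases s
  · cases i
    · rcases invol_torus (by omega) (v := ⟨c, d, false, false⟩) rfl rfl h h1 with e | e | e
      exacts [Or.inl e, Or.inr (Or.inl e), Or.inr (Or.inr (Or.inl e))]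
    · refine Or.inr (Or.inr (Or.inr (inv_isConj (by omega) ?_ ?_)))
      all_goals simp only [Commute, SemiconjBy, mul_def, sg, cond_false, cond_true, Mdl.mk.injEq] at hv
      · rcases eq_or_eq_hf (a := c - a) (by omega) (by linear_combination hv.1) with e | e
        · rw [sub_eq_zero.1 e]
        · rw [sub_eq_iff_eq_add.1 e, par_add (by omega), par_hf ht]; simp
      · rcases eq_or_eq_hf (a := d - b) (by omega) (by linear_combination hv.2.1) with e | e
        · rw [sub_eq_zero.1 e]
        · rw [sub_eq_iff_eq_add.1 e, par_add (by omega), par_hf ht]; simp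
  · refine absurd ?_ hab
    have hd := par_double (show 1 ≤ t by omega) c
    cases i <;> simp only [Commute, SemiconjBy, mul_def, sg, cond_false, cond_true, Mdl.mk.injEq] at hv
    · rw [show c + c = a + -b by linear_combination hv.1, par_add (by omega), par_neg (by omega)] at hd
      simpa using hd
    · rw [show c + c = a + b by linear_combination hv.1, par_add (by omega)] at hd
      simpa using hd

/-- The centraliser of the exchange. -/
theorem comm_s0 {v : Mdl t} (hv : Commute v (s0 t)) : v.y = v.x := by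
  obtain ⟨a, b, i, s⟩ := v
  cases i <;> cases s <;> simp [Commute, SemiconjBy, s0, mul_def, sg] at hv ⊢ <;> first | exact hv | exact hv.2 | exact hv.1 | exact hv.1.symm | exact hv.symm

theorem commute_s0 {v : Mdl t} (hv : v.y = v.x) : Commute v (s0 t) := by
  obtain ⟨a, b, i, s⟩ := v
  cases hv
  cases i <;> cases s <;> simp [Commute, SemiconjBy, s0, mul_def, sg]

theorem card_cent_s0 : Nat.card {v : Mdl t // Commute v (s0 t)} = 4 * 2 ^ t := by
  have e : {v : Mdl t // Commute v (s0 t)} ≃ ZMod (2 ^ t) × Bool × Bool :=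
    { toFun := fun v => (v.1.x, v.1.i, v.1.s)
      invFun := fun p => ⟨⟨p.1, p.1, p.2.1, p.2.2⟩, commute_s0 rfl⟩
      left_inv := fun v => Subtype.ext (Mdl.ext rfl (comm_s0 v.2).symm rfl rfl)
      right_inv := fun _ => rfl }
  rw [Nat.card_congr e]
  simp [Nat.card_prod]
  ring

theorem card_cent_t0 : Nat.card {v : Mdl t // Commute v (t0 t)} = 4 * 2 ^ t := by
  have h1 : ∀ v : Mdl t, Commute v (t0 t) ↔ v.y = -v.x := fun ⟨a, b, i, s⟩ => by
    constructor
    · intro hv
      cases i <;> cases s <;> simp [Commute, SemiconjBy, t0, mul_def, sg] at hv ⊢ <;> grind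
    · rintro (rfl : b = -a)
      cases i <;> cases s <;> simp [Commute, SemiconjBy, t0, mul_def, sg]
  have e : {v : Mdl t // Commute v (t0 t)} ≃ ZMod (2 ^ t) × Bool × Bool :=
    { toFun := fun v => (v.1.x, v.1.i, v.1.s)
      invFun := fun p => ⟨⟨p.1, -p.1, p.2.1, p.2.2⟩, (h1 _).2 rfl⟩
      left_inv := fun v => Subtype.ext (Mdl.ext rfl ((h1 v.1).1 v.2).symm rfl rfl)
      right_inv := fun _ => rfl }
  rw [Nat.card_congr e]
  simp [Nat.card_prod]
  ring

/-- An inversion has a small centraliser. -/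
theorem card_cent_inv (ht : 1 ≤ t) {w : Mdl t} (hi : w.i = true) (hs : w.s = false) :
    Nat.card {v : Mdl t // Commute v w} ≤ 16 := by
  classical
  have key : ∀ u v : {v : Mdl t // Commute v w}, u.1.i = v.1.i → u.1.s = v.1.s →
      (u.1.x - v.1.x + (u.1.x - v.1.x) = 0 ∧ u.1.y - v.1.y + (u.1.y - v.1.y) = 0) := by
    rintro ⟨⟨a, b, i, s⟩, h⟩ ⟨⟨c, d, i', s'⟩, h'⟩ (rfl : i = i') (rfl : s = s')
    obtain ⟨x, y, wi, ws⟩ := w
    subst hi hs
    cases i <;> cases s <;> simp only [Commute, SemiconjBy, mul_def, sg, cond_false, cond_true, Mdl.mk.injEq] at h h' <;>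
      exact ⟨by linear_combination h.1 - h'.1, by linear_combination h.2.1 - h'.2.1⟩
  let C := {v : Mdl t // Commute v w}
  let rep : Bool → Bool → Option C := fun i s =>
    if hx : ∃ v : C, v.1.i = i ∧ v.1.s = s then some hx.choose else none
  let f : C → Bool × Bool × Bool × Bool := fun v =>
    (v.1.i, v.1.s, (rep v.1.i v.1.s).any fun r => decide (r.1.x = v.1.x),
      (rep v.1.i v.1.s).any fun r => decide (r.1.y = v.1.y))
  have hf : Function.Injective f := by
    intro u v huv
    simp only [f, Prod.mk.injEq] at huv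
    obtain ⟨hi', hs', hx, hy⟩ := huv
    have hex : ∃ r : C, r.1.i = v.1.i ∧ r.1.s = v.1.s := ⟨v, rfl, rfl⟩
    rw [hi', hs'] at hx hy
    simp only [rep, dif_pos hex, Option.any_some, decide_eq_decide] at hx hy
    set r := hex.choose
    obtain ⟨ri, rs⟩ := hex.choose_spec
    obtain ⟨u1, u2⟩ := key u r (hi'.trans ri.symm) (hs'.trans rs.symm)
    obtain ⟨v1, v2⟩ := key v r ri.symm rs.symm
    refine Subtype.ext (Mdl.ext ?_ ?_ hi' hs')
    · rcases eq_or_eq_hf ht u1 with e | e <;> rcases eq_or_eq_hf ht v1 with e' | e'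
      · exact (sub_eq_zero.1 e).trans (sub_eq_zero.1 e').symm
      · have := hx.1 (sub_eq_zero.1 e).symm
        rw [this, sub_self] at e'; exact absurd e'.symm (hf_ne ht)
      · have := hx.2 (sub_eq_zero.1 e').symm
        rw [this, sub_self] at e; exact absurd e.symm (hf_ne ht)
      · exact sub_left_inj.1 (e.trans e'.symm)
    · rcases eq_or_eq_hf ht u2 with e | e <;> rcases eq_or_eq_hf ht v2 with e' | e'
      · exact (sub_eq_zero.1 e).trans (sub_eq_zero.1 e').symm
      · have := hy.1 (sub_eq_zero.1 e).symm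
        rw [this, sub_self] at e'; exact absurd e'.symm (hf_ne ht)
      · have := hy.2 (sub_eq_zero.1 e').symm
        rw [this, sub_self] at e; exact absurd e.symm (hf_ne ht)
      · exact sub_left_inj.1 (e.trans e'.symm)
  calc Nat.card C ≤ Nat.card (Bool × Bool × Bool × Bool) := Nat.card_le_card_of_injective f hf
    _ = 16 := by simp [Nat.card_prod]

/-- The homomorphism given by images of the coordinates and of the two outer generators. -/
noncomputable def lift {G : Type*} [Group G] (f : ZMod (2 ^ t) → ZMod (2 ^ t) → G) (I S : G)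
    (hadd : ∀ a b c d, f a b * f c d = f (a + c) (b + d)) (hI : I * I = 1) (hS : S * S = 1) (hIS : I * S = S * I)
    (hIf : ∀ a b, I * f a b = f (-a) (-b) * I) (hSf : ∀ a b, S * f a b = f b a * S) : Mdl t →* G :=
  MonoidHom.mk' (fun v => f v.x v.y * (bif v.i then I else 1) * (bif v.s then S else 1)) fun v w => by
    obtain ⟨a, b, i, s⟩ := v
    obtain ⟨c, d, i', s'⟩ := w
    have hS' : ∀ g, S * (S * g) = g := fun g => by rw [← mul_assoc, hS, one_mul]
    have hI' : ∀ g, I * (I * g) = g := fun g => by rw [← mul_assoc, hI, one_mul]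
    have hIS' : ∀ g, S * (I * g) = I * (S * g) := fun g => by rw [← mul_assoc, ← hIS, mul_assoc]
    have hIf' : ∀ a b g, I * (f a b * g) = f (-a) (-b) * (I * g) := fun a b g => by
      rw [← mul_assoc, hIf, mul_assoc]
    have hSf' : ∀ a b g, S * (f a b * g) = f b a * (S * g) := fun a b g => by rw [← mul_assoc, hSf, mul_assoc]
    have hadd' : ∀ a b c d g, f a b * (f c d * g) = f (a + c) (b + d) * g := fun a b c d g => by
      rw [← mul_assoc, hadd]
    cases i <;> cases s <;> cases i' <;> cases s' <;>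
      simp [mul_def, sg, mul_assoc, hadd, hadd', hIf, hIf', hSf, hSf', hI, hI', hS, hS', hIS', ← hIS]

theorem lift_apply {G : Type*} [Group G] (f : ZMod (2 ^ t) → ZMod (2 ^ t) → G) (I S : G)
    (hadd hI hS hIS hIf hSf) (v : Mdl t) : lift f I S hadd hI hS hIS hIf hSf v =
      f v.x v.y * (bif v.i then I else 1) * (bif v.s then S else 1) := rfl

end Mdl

end Cfsg.Lib.G2SylTwo
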