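import Cfsg.Agent.Lib.G2SylTwo.Model
import Cfsg.Agent.Lib.Chev.InvG2

/-!
The model inside the product of the two commuting copies of `SL(2)` of a group of type G2.
-/

set_option autoImplicit false
set_option linter.unusedSectionVars false

namespace Cfsg.Lib.G2SylTwo

open Cfsg.Lie Cfsg.Lib.Chev Mdl
open scoped MatrixGroups Matrix

variable {L : Type*} [Field L]

/-- The root homomorphisms. -/
noncomputable def rootHom (L : Type*) [Field L] {r : ℕ} (hr : r < chevG2.nroots) : SL(2, L) →* GL chevG2.Idx L :=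
  (rootRel fullCertG2.comm.cert hr).hom

theorem rootHom_injective {r : ℕ} (hr : r < chevG2.nroots) (hc : r = 7 ∨ r = 11) :
    Function.Injective (rootHom L hr) := by
  refine rootRel_injective fullCertG2.comm.cert fullCertG2 g2_torus_injective hr ?_ ?_
  · have : chevG2.nroots = 12 := rfl
    omega
  · rcases hc with rfl | rfl <;> exact ⟨⟨0, by decide⟩, by decide +kernel⟩

theorem rootHom_commute (x y : SL(2, L)) :
    Commute (rootHom L g2_roots_lt.1 x) (rootHom L g2_roots_lt.2 y) := by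
  suffices h : (rootHom L g2_roots_lt.2).range ≤
      Subgroup.centralizer ((rootHom L g2_roots_lt.1).range : Set (GL chevG2.Idx L))
    from Subgroup.mem_centralizer_iff.1 (h ⟨y, rfl⟩) _ ⟨x, rfl⟩
  rw [rootHom, rootHom, SLTwoRel.hom_range, SLTwoRel.hom_range, Subgroup.centralizer_closure, Subgroup.closure_le]
  have C : Cert chevG2 tblG2 := fullCertG2.comm.cert
  have key : ∀ r s : ℕ, r < chevG2.nroots → s < chevG2.nroots → s ≠ r → s ≠ tblG2.neg r → tTerms tblG2 r s = [] →
      ∀ t u : L, xg C r t * xg C s u = xg C s u * xg C r t := by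
    intro r s hr hs h1 h2 h3 t u
    have h := comm_xg_prod C fullCertG2.comm hr hs h1 h2 t u
    rw [h3, List.map_nil, List.prod_nil, commutatorElement_eq_one_iff_commute] at h
    exact h.inv_inv.symm.eq
  have hd : ∀ r ∈ [7, tblG2.neg 7], ∀ s ∈ [11, tblG2.neg 11],
      r < chevG2.nroots ∧ s < chevG2.nroots ∧ s ≠ r ∧ s ≠ tblG2.neg r ∧ tTerms tblG2 r s = [] := by decide +kernel
  rintro z hz
  refine Subgroup.mem_centralizer_iff.2 fun w hw => ?_
  obtain ⟨r, hr, t, rfl⟩ : ∃ r ∈ [7, tblG2.neg 7], ∃ t : L, xg C r t = w := by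
    rcases hw with ⟨t, rfl⟩ | ⟨t, rfl⟩
    exacts [⟨7, by simp, t, rfl⟩, ⟨tblG2.neg 7, by simp, t, rfl⟩]
  obtain ⟨s, hs, u, rfl⟩ : ∃ s ∈ [11, tblG2.neg 11], ∃ u : L, xg C s u = z := by
    rcases hz with ⟨u, rfl⟩ | ⟨u, rfl⟩
    exacts [⟨11, by simp, u, rfl⟩, ⟨tblG2.neg 11, by simp, u, rfl⟩]
  obtain ⟨a, b, c, d, e⟩ := hd r hr s hs
  exact key r s a b c d e t u

/-- The product map. -/
noncomputable def pairHom (L : Type*) [Field L] : SL(2, L) × SL(2, L) →* GL chevG2.Idx L :=
  (rootHom L g2_roots_lt.1).noncommCoprod (rootHom L g2_roots_lt.2) rootHom_commute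

theorem pairHom_mem (p : SL(2, L) × SL(2, L)) : pairHom L p ∈ chevG2.group L := by
  have key : ∀ {r : ℕ} (hr : r < chevG2.nroots) (x : SL(2, L)), rootHom L hr x ∈ chevG2.group L := by
    intro r hr x
    suffices h : (rootHom L hr).range ≤ chevG2.group L from h ⟨x, rfl⟩
    rw [rootHom, SLTwoRel.hom_range, Subgroup.closure_le]
    rintro _ (⟨a, rfl⟩ | ⟨a, rfl⟩) <;> exact xg_mem_group fullCertG2.comm.cert _ _
  rw [pairHom, MonoidHom.noncommCoprod_apply]
  exact mul_mem (key _ _) (key _ _)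

theorem map_rootHom (f : L →+* L) {r : ℕ} (hr : r < chevG2.nroots) (g : SL(2, L)) :
    Matrix.GeneralLinearGroup.map f (rootHom L hr g) =
      rootHom L hr (Matrix.SpecialLinearGroup.map f g) := by
  classical
  show Matrix.GeneralLinearGroup.map f ((rootRel fullCertG2.comm.cert hr).toFun' g) =
    (rootRel fullCertG2.comm.cert hr).toFun' _
  have e : ∀ i j, (Matrix.SpecialLinearGroup.map f g).1 i j = f (g.1 i j) := fun _ _ => rfl
  have h0 : f (g.1 1 0) = 0 ↔ g.1 1 0 = 0 := map_eq_zero f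
  simp only [SLTwoRel.toFun', e, h0]
  split_ifs
  · show Matrix.GeneralLinearGroup.map f (xg fullCertG2.comm.cert r _ * hg fullCertG2.comm.cert r _) = xg fullCertG2.comm.cert r _ * hg fullCertG2.comm.cert r _
    rw [map_mul, map_xg, map_hg, map_mul]
  · show Matrix.GeneralLinearGroup.map f (xg fullCertG2.comm.cert r _ * ng fullCertG2.comm.cert r _ * xg fullCertG2.comm.cert r _) = xg fullCertG2.comm.cert r _ * ng fullCertG2.comm.cert r _ * xg fullCertG2.comm.cert r _
    simp only [map_mul, map_xg, map_ng, map_div₀, map_neg, map_inv₀]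

theorem map_pairHom (f : L →+* L) (p : SL(2, L) × SL(2, L)) :
    Matrix.GeneralLinearGroup.map f (pairHom L p) =
      pairHom L (Matrix.SpecialLinearGroup.map f p.1, Matrix.SpecialLinearGroup.map f p.2) := by
  simp only [pairHom, MonoidHom.noncommCoprod_apply, map_mul, map_rootHom]

theorem rootHom_neg_one {r : ℕ} (hr : r < chevG2.nroots) (hc : r = 7 ∨ r = 11) :
    rootHom L hr (-1 : SL(2, L)) = torusHom chevG2 tblG2 L (sgnVec chevG2 L 1) := by
  classical
  have hone : (-1 : L) ≠ 0 := neg_ne_zero.2 one_ne_zero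
  show (rootRel fullCertG2.comm.cert hr).toFun' (-1) = _
  unfold SLTwoRel.toFun'
  rw [if_pos (by simp)]
  show xg fullCertG2.comm.cert r _ * hg fullCertG2.comm.cert r _ = _
  simp only [Matrix.SpecialLinearGroup.coe_neg, Matrix.SpecialLinearGroup.coe_one, Matrix.neg_apply,
    Matrix.one_apply_eq, Matrix.one_apply_ne (show (0 : Fin 2) ≠ 1 by decide), neg_zero, mul_zero]
  rw [xg_zero, one_mul, hg_eq_torus fullCertG2.comm.cert hr hone]
  refine congrArg _ (funext fun k => Units.ext ?_)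
  have key : ∀ r ∈ [7, 11], ∀ k : Fin chevG2.rank,
      ((tblG2.coroot r k % 2 = 0) = (Nat.testBit 1 k = false)) := by decide +kernel
  have hk := key r (by rcases hc with rfl | rfl <;> simp) k
  show (-1 : L) ^ tblG2.coroot r k = _
  unfold sgnVec
  rcases Int.even_or_odd (tblG2.coroot r k) with h | h
  · rw [h.neg_one_zpow, if_neg (by simp [hk ▸ Int.even_iff.1 h])]; simp
  · rw [h.neg_one_zpow, if_pos]
    · simp
    · by_contra hb
      have := hk ▸ Bool.eq_false_iff.2 hb
      rw [Int.odd_iff.1 h] at this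
      simp at this

theorem pairHom_neg_one : pairHom L (-1, -1) = 1 := by
  rw [pairHom, MonoidHom.noncommCoprod_apply]
  have e : rootHom L g2_roots_lt.1 (-1 : SL(2, L)) = rootHom L g2_roots_lt.2 (-1) :=
    (rootHom_neg_one _ (Or.inl rfl)).trans (rootHom_neg_one _ (Or.inr rfl)).symm
  show rootHom L g2_roots_lt.1 (-1) * rootHom L g2_roots_lt.2 (-1) = 1
  rw [e, ← map_mul, neg_mul_neg, one_mul, map_one]

theorem pairHom_neg (p : SL(2, L) × SL(2, L)) : pairHom L (-p.1, -p.2) = pairHom L p := by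
  rw [show ((-p.1, -p.2) : SL(2, L) × SL(2, L)) = (-1, -1) * p by simp [Prod.ext_iff], map_mul, pairHom_neg_one,
    one_mul]

theorem pairHom_eq_one {a b : SL(2, L)} (h : pairHom L (a, b) = 1) : (a = 1 ∨ a = -1) ∧ b = a := by
  rw [pairHom, MonoidHom.noncommCoprod_apply] at h
  change rootHom L g2_roots_lt.1 a * rootHom L g2_roots_lt.2 b = 1 at h
  have hb : rootHom L g2_roots_lt.1 a = rootHom L g2_roots_lt.2 b⁻¹ := by rw [map_inv]; exact eq_inv_of_mul_eq_one_left h
  have hc : a = 1 ∨ a = -1 := sl_two_central fun x =>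
    rootHom_injective g2_roots_lt.1 (Or.inl rfl) (by rw [map_mul, map_mul, hb]; exact (rootHom_commute x b⁻¹).eq)
  refine ⟨hc, ?_⟩
  have haa : a * a = 1 := by rcases hc with rfl | rfl <;> simp
  refine rootHom_injective g2_roots_lt.2 (Or.inr rfl) ?_
  rcases hc with rfl | rfl
  · simpa using h
  · rw [(rootHom_neg_one g2_roots_lt.1 (Or.inl rfl)).trans (rootHom_neg_one g2_roots_lt.2 (Or.inr rfl)).symm,
      ← map_mul] at h
    have := rootHom_injective g2_roots_lt.2 (Or.inr rfl) (h.trans (map_one _).symm)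
    rw [neg_mul, one_mul, neg_eq_iff_eq_neg] at this
    rw [this]

/-- The diagonal matrices. -/
def dia : Lˣ →* SL(2, L) where
  toFun u := SLTwoRel.tri (u : L) 0 u.ne_zero
  map_one' := Subtype.ext (by simp [SLTwoRel.coe_tri, Matrix.one_fin_two])
  map_mul' u v := Subtype.ext (by simp [SLTwoRel.coe_tri, Matrix.SpecialLinearGroup.coe_mul, mul_comm])

theorem coe_dia (u : Lˣ) : ((dia u : SL(2, L)) : Matrix (Fin 2) (Fin 2) L) = !![(u : L), 0; 0, (u : L)⁻¹] := rfl

theorem rot_dia (u : Lˣ) : SLTwoRel.rot * dia u = dia u⁻¹ * SLTwoRel.rot := by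
  refine Subtype.ext ?_
  simp [coe_dia, SLTwoRel.coe_rot]

theorem rot_sq : (SLTwoRel.rot * SLTwoRel.rot : SL(2, L)) = -1 := by
  refine Subtype.ext ?_
  simp [SLTwoRel.coe_rot, Matrix.one_fin_two]

theorem dia_neg_one : dia (-1 : Lˣ) = -1 := by
  refine Subtype.ext ?_
  simp [coe_dia, Matrix.one_fin_two]

variable {t : ℕ} {u : Lˣ}

/-- The torus part. -/
noncomputable def tor (u : Lˣ) (m n : ℤ) : GL chevG2.Idx L := pairHom L (dia (u ^ (m - n)), dia (u ^ (m + n)))

theorem tor_mul (u : Lˣ) (m n m' n' : ℤ) : tor u m n * tor u m' n' = tor u (m + m') (n + n') := by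
  simp only [tor, ← map_mul, Prod.mk_mul_mk, ← zpow_add]
  ring_nf

theorem tor_zero (u : Lˣ) : tor u 0 0 = 1 := by
  have h : ((dia (u ^ ((0 : ℤ) - 0)), dia (u ^ ((0 : ℤ) + 0))) : SL(2, L) × SL(2, L)) = 1 := by simp [Prod.ext_iff]
  rw [tor, h, map_one]

theorem tor_period (hu : u ^ (2 ^ t) = -1) (m n k l : ℤ) :
    tor u (m + (2 ^ t : ℕ) * k) (n + (2 ^ t : ℕ) * l) = tor u m n := by
  have hsq : (((-1 : Lˣ) ^ l) * ((-1 : Lˣ) ^ l)) = 1 := by rw [← mul_zpow, neg_mul_neg, one_mul, one_zpow]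
  have hk : tor u ((2 ^ t : ℕ) * k) ((2 ^ t : ℕ) * l) = 1 := by
    simp only [tor, ← mul_sub, ← mul_add, zpow_mul, zpow_natCast, hu]
    rw [sub_eq_add_neg, zpow_add, zpow_add, zpow_neg, inv_eq_of_mul_eq_one_right hsq, ← zpow_add]
    rcases Int.even_or_odd (k + l) with h | h
    · rw [h.neg_one_zpow, map_one]; exact map_one _
    · rw [h.neg_one_zpow, dia_neg_one, pairHom_neg_one]
  rw [← tor_mul, hk, mul_one]

end Cfsg.Lib.G2SylTwo
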